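import Mathlib
import Cfsg.Agent.FastGrp
import Cfsg.Agent.Prune
set_option linter.all false

section
prune_inst 0x7f00000000000000000000000000000000000000000000000000000000000000000000000000000000000000000000000000000000000000000000000000000000000000000000000000000000000000003fffffffffffffffffffffffffffbeffbdffffffff

-- part: H104/TwoLines
section
set_option linter.all false
open scoped Cfsg.Agent.FastGrp

/-!
# Elementary abelian subgroups of rank two acting linearly in coprime characteristic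

* `Rank2 p G` : two commuting elements of order `p` generating a group of order `p ^ 2`;
* `isCyclic_or_rank2` : an abelian finite `p`-group is cyclic or has `Rank2`;
* `Rank2.lift` : lifting through a central kernel of order prime to `p`;
* `exists_two_lines` : in a linear representation in characteristic `≠ p` where the group acts
  faithfully, two different subgroups of order `p` have more fixed vectors than the whole group;
* `two_mul_le_finrank` : hence the dimension is at least `2 e`, `e` the order of `q` modulo `p`.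
-/

set_option autoImplicit false

namespace Cfsg.Agent.H104.TwoLines

open Subgroup

/-- two commuting elements of order `p` generating a group of order `p ^ 2` -/
def Rank2 (p : ℕ) (G : Type*) [Group G] : Prop :=
  ∃ x y : G, x ^ p = 1 ∧ y ^ p = 1 ∧ x * y = y * x ∧ x ≠ 1 ∧ y ∉ Subgroup.zpowers x

theorem Rank2.map_injective {p : ℕ} {G H : Type*} [Group G] [Group H] (h : Rank2 p G) (f : G →* H)
    (hf : Function.Injective f) : Rank2 p H := by
  obtain ⟨x, y, hx, hy, hxy, hx1, hyx⟩ := h
  refine ⟨f x, f y, by rw [← map_pow, hx, map_one], by rw [← map_pow, hy, map_one],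
    by rw [← map_mul, hxy, map_mul], fun h1 => hx1 (hf (by rw [h1, map_one])), ?_⟩
  rintro ⟨k, hk⟩
  apply hyx
  refine ⟨k, hf ?_⟩
  simpa using hk

theorem isCyclic_of_comm {A : Type*} [CommGroup A] [Finite A] {p : ℕ} [hp : Fact p.Prime]
    (hA : IsPGroup p A) (h : ∀ x y : A, x ^ p = 1 → y ^ p = 1 → x ≠ 1 → y ∈ Subgroup.zpowers x) :
    IsCyclic A := by
  obtain ⟨g, hg⟩ := Monoid.exists_orderOf_eq_exponent (G := A) Monoid.ExponentExists.of_finite
  have hexp : ∀ x : A, x ^ orderOf g = 1 := fun x => by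
    rw [hg]; exact Monoid.pow_exponent_eq_one x
  by_contra hcyc
  have hne : Subgroup.zpowers g ≠ ⊤ := by
    intro h1
    exact hcyc ⟨g, fun x => by
      have : x ∈ (⊤ : Subgroup A) := Subgroup.mem_top x
      rw [← h1] at this
      exact this⟩
  have hnt : Nontrivial (A ⧸ Subgroup.zpowers g) := by
    rw [QuotientGroup.nontrivial_iff]
    exact hne
  have hq : IsPGroup p (A ⧸ Subgroup.zpowers g) := hA.to_quotient _
  obtain ⟨xb, hxb⟩ := exists_prime_orderOf_dvd_card' (G := A ⧸ Subgroup.zpowers g) p (by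
    obtain ⟨n, hn⟩ := IsPGroup.iff_card.1 hq
    rw [hn]
    refine dvd_pow_self p ?_
    rintro rfl
    rw [pow_zero] at hn
    have := Finite.one_lt_card_iff_nontrivial.2 hnt
    omega)
  obtain ⟨x, rfl⟩ := QuotientGroup.mk_surjective xb
  have hx : x ∉ Subgroup.zpowers g := by
    intro h1
    rw [(QuotientGroup.eq_one_iff x).2 h1, orderOf_one] at hxb
    exact hp.out.one_lt.ne hxb
  have hxp : x ^ p ∈ Subgroup.zpowers g := by
    rw [← QuotientGroup.eq_one_iff, QuotientGroup.mk_pow, ← hxb, pow_orderOf_eq_one]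
  obtain ⟨n, hn⟩ := (IsPGroup.iff_orderOf.1 hA) g
  have hn0 : n ≠ 0 := by
    rintro rfl
    rw [pow_zero] at hn
    apply hx
    have h1 := hexp x
    rw [hn, pow_one] at h1
    rw [h1]
    exact one_mem _
  obtain ⟨k, hk⟩ := hxp
  have hk' : g ^ k = x ^ p := hk
  have hpk : (p : ℤ) ∣ k := by
    have h1 : g ^ (k * (p ^ (n - 1) : ℕ)) = 1 := by
      rw [zpow_mul, hk', zpow_natCast, ← pow_mul, ← pow_succ', Nat.sub_add_cancel (Nat.pos_of_ne_zero hn0),
        ← hn]
      exact hexp x
    have h2 := orderOf_dvd_iff_zpow_eq_one.2 h1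
    rw [hn] at h2
    have h3 : ((p ^ n : ℕ) : ℤ) = p * (p ^ (n - 1) : ℕ) := by
      rw [← Nat.cast_mul, ← pow_succ', Nat.sub_add_cancel (Nat.pos_of_ne_zero hn0)]
    rw [h3] at h2
    exact Int.dvd_of_mul_dvd_mul_right
      (by exact_mod_cast (pow_pos hp.out.pos _).ne') h2
  obtain ⟨j, rfl⟩ := hpk
  have hy : (x * g ^ (-j)) ^ p = 1 := by
    rw [mul_pow, ← hk', ← zpow_natCast (g ^ (-j)), ← zpow_mul, ← zpow_add]
    have : (p : ℤ) * j + -j * p = 0 := by ring
    rw [this, zpow_zero]
  have hz : (g ^ p ^ (n - 1)) ^ p = 1 := by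
    rw [← pow_mul, ← pow_succ, Nat.sub_add_cancel (Nat.pos_of_ne_zero hn0), ← hn, pow_orderOf_eq_one]
  have hz1 : g ^ p ^ (n - 1) ≠ 1 := by
    intro h1
    have h2 := orderOf_dvd_of_pow_eq_one h1
    rw [hn] at h2
    have h3 := Nat.le_of_dvd (pow_pos hp.out.pos _) h2
    have h4 : p ^ (n - 1) < p ^ n := Nat.pow_lt_pow_right hp.out.one_lt (by omega)
    omega
  have h5 := h _ _ hz hy hz1
  apply hx
  have h6 : x * g ^ (-j) ∈ Subgroup.zpowers g := by
    refine (Subgroup.zpowers_le.2 ?_) h5
    exact Subgroup.pow_mem _ (Subgroup.mem_zpowers g) _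
  have h7 : x = x * g ^ (-j) * g ^ j := by
    rw [mul_assoc, ← zpow_add]; simp
  rw [h7]
  exact mul_mem h6 (Subgroup.zpow_mem _ (Subgroup.mem_zpowers g) _)

/-- An abelian `p`-subgroup is cyclic or the group has `Rank2`. -/
theorem isCyclic_or_rank2 {G : Type*} [Group G] [Finite G] {p : ℕ} [hp : Fact p.Prime] (P : Subgroup G)
    (hP : IsMulCommutative P) (hPp : IsPGroup p P) : IsCyclic P ∨ Rank2 p G := by
  let _ : CommGroup P := { (inferInstance : Group P) with mul_comm := hP.is_comm.comm }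
  by_cases h : ∀ x y : P, x ^ p = 1 → y ^ p = 1 → x ≠ 1 → y ∈ Subgroup.zpowers x
  · exact Or.inl (isCyclic_of_comm hPp h)
  · right
    push Not at h
    obtain ⟨x, y, hx, hy, hx1, hyx⟩ := h
    have h1 : Rank2 p P := ⟨x, y, hx, hy, mul_comm x y, hx1, hyx⟩
    exact h1.map_injective P.subtype P.subtype_injective

/-- Lifting a rank two subgroup through a central `p'`-kernel. -/
theorem Rank2.lift {p : ℕ} (hp : p.Prime) {G H : Type*} [Group G] [Finite G] [Group H]
    (f : G →* H) (hf : Function.Surjective f) (hker : f.ker ≤ Subgroup.center G)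
    (hcop : (Nat.card f.ker).Coprime p) (h : Rank2 p H) : Rank2 p G := by
  obtain ⟨xb, yb, hxb, hyb, hxy, hx1, hyx⟩ := h
  -- lifts of order dividing `p`
  have hlift : ∀ b : H, b ^ p = 1 → ∃ a : G, a ^ p = 1 ∧ f a = b := by
    intro b hb
    obtain ⟨a, rfl⟩ := hf b
    set m := Nat.card f.ker with hm
    have ham : (a ^ p) ^ m = 1 := by
      have h1 : a ^ p ∈ f.ker := by rw [MonoidHom.mem_ker, map_pow, hb]
      have h2 := pow_card_eq_one' (x := (⟨a ^ p, h1⟩ : f.ker))
      exact congrArg Subtype.val h2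
    obtain ⟨u, hu⟩ := Nat.exists_mul_mod_eq_one_of_coprime hcop hp.one_lt
    refine ⟨a ^ (m * u), ?_, ?_⟩
    · rw [← pow_mul, show m * u * p = p * m * u by ring, pow_mul, pow_mul, ham, one_pow]
    · rw [map_pow, ← Nat.div_add_mod (m * u) p, hu.2, pow_add, pow_mul, hb, one_pow, one_mul, pow_one]
  obtain ⟨x, hx, rfl⟩ := hlift xb hxb
  obtain ⟨y, hy, rfl⟩ := hlift yb hyb
  refine ⟨x, y, hx, hy, ?_, fun h1 => hx1 (by rw [h1, map_one]), ?_⟩
  · have hc : x * y * x⁻¹ * y⁻¹ ∈ f.ker := by
      rw [MonoidHom.mem_ker, map_mul, map_mul, map_mul, map_inv, map_inv, hxy]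
      group
    set c := x * y * x⁻¹ * y⁻¹ with hcdef
    have hcc : ∀ g : G, g * c = c * g := fun g => (Subgroup.mem_center_iff.1 (hker hc) g)
    have hxyc : x * y * x⁻¹ = c * y := by rw [hcdef]; group
    have hpow : ∀ k : ℕ, x ^ k * y * (x ^ k)⁻¹ = c ^ k * y := by
      intro k
      induction k with
      | zero => simp
      | succ k ih =>
        have h1 : x ^ (k + 1) * y * (x ^ (k + 1))⁻¹ = x * (x ^ k * y * (x ^ k)⁻¹) * x⁻¹ := by
          rw [pow_succ']; group
        have h2 : x * c ^ k = c ^ k * x := ((show Commute x c from hcc x).pow_right k).eq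
        rw [h1, ih, ← mul_assoc, h2, mul_assoc, mul_assoc, ← mul_assoc x, hxyc, ← mul_assoc, ← pow_succ]
    have hcp : c ^ p = 1 := by
      have h1 := hpow p
      rw [hx] at h1
      have h2 : c ^ p * y = 1 * y := by rw [← h1]; group
      exact mul_right_cancel h2
    have hcm : c ^ Nat.card f.ker = 1 := by
      have h2 := pow_card_eq_one' (x := (⟨c, hc⟩ : f.ker))
      exact congrArg Subtype.val h2
    have hc1 : c = 1 := by
      have h3 : orderOf c ∣ Nat.gcd (Nat.card f.ker) p :=
        Nat.dvd_gcd (orderOf_dvd_of_pow_eq_one hcm) (orderOf_dvd_of_pow_eq_one hcp)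
      rw [hcop] at h3
      exact orderOf_eq_one_iff.1 (Nat.dvd_one.1 h3)
    rw [hc1, one_mul] at hxyc
    exact mul_inv_eq_iff_eq_mul.1 hxyc
  · rintro ⟨k, hk⟩
    apply hyx
    refine ⟨k, ?_⟩
    have : x ^ k = y := hk
    change (f x) ^ k = f y
    rw [← map_zpow, this]

/-! ### Fixed vectors -/

section fixed

variable {F V : Type*} [Field F] [AddCommGroup V] [Module F V] {G : Type*} [Group G]

/-- Counting fixed vectors of an element of order `p` acting on a finite set. -/
theorem card_fix_modEq {α : Type*} [Finite α] {p : ℕ} [hp : Fact p.Prime] (f : α → α) (hf : f^[p] = id) :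
    Nat.card α ≡ Nat.card {a : α // f a = a} [MOD p] := by
  classical
  let _ : Fintype α := Fintype.ofFinite α
  have h := Equiv.Perm.card_fixedPoints_modEq (α := α) (f := (f : Function.End α)) (p := p) (n := 1) (by
    rw [pow_one]
    have h2 : ∀ n : ℕ, ((show Function.End α from f) ^ n : Function.End α) = f^[n] := by
      intro n
      induction n with
      | zero => rfl
      | succ n ih =>
        rw [pow_succ, ih]
        rfl
    have h1 : ((show Function.End α from f) ^ p : Function.End α) = f^[p] := h2 p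
    rw [h1, hf]
    rfl)
  rw [← Nat.card_eq_fintype_card, ← Nat.card_eq_fintype_card] at h
  exact h

variable [Fintype F] [FiniteDimensional F V]

end fixed

end Cfsg.Agent.H104.TwoLines
end

-- part: H104/RankBound
section
set_option linter.all false
open scoped Cfsg.Agent.FastGrp

-- part: H104/CharSupp
section
/-!
# Characters of a rank two elementary abelian group occurring in a representation

`x`, `y` commuting operators with `x ^ p = y ^ p = 1` on a space over a field `K` of characteristic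
`≠ p` with a primitive additive character `ψ` of `ZMod p`.

* `Occ ψ x y s` : the character `s : ZMod p × ZMod p` occurs;
* `card_le_finrank` : the number of occurring characters is at most the dimension;
* `exists_indep` : if `x`, `y` generate a faithful group of order `p ^ 2`, two linearly independent
  characters occur;
* `two_mul_card_le` : if the set of occurring characters is invariant under a group `U` of scalars,
  then `2 |U| ≤ dim`, and in case of equality there is no common fixed vector.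
-/

set_option autoImplicit false

namespace Cfsg.Agent.H104.CharSupp

open Finset

variable {K V : Type*} [Field K] [AddCommGroup V] [Module K V] {p : ℕ} [hp : Fact p.Prime]

theorem pw_add {M : Type*} [Monoid M] {x : M} (hx : x ^ p = 1) (i j : ZMod p) :
    x ^ (i + j).val = x ^ i.val * x ^ j.val := by
  rw [ZMod.val_add, ← pow_add, ← pow_eq_pow_mod _ hx]

/-- the character `s` occurs -/
def Occ (ψ : AddChar (ZMod p) K) (x y : Module.End K V) (s : ZMod p × ZMod p) : Prop :=
  ∃ v : V, v ≠ 0 ∧ x v = ψ s.1 • v ∧ y v = ψ s.2 • v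

/-- (`p ^ 2` times) the projection onto the eigenspace -/
noncomputable def proj (ψ : AddChar (ZMod p) K) (x y : Module.End K V) (s : ZMod p × ZMod p) :
    Module.End K V :=
  ∑ i : ZMod p, ∑ j : ZMod p, ψ (-(s.1 * i + s.2 * j)) • (x ^ i.val * y ^ j.val)

variable {ψ : AddChar (ZMod p) K} {x y : Module.End K V}

theorem mul_proj_left (hx : x ^ p = 1) (s : ZMod p × ZMod p) :
    x * proj ψ x y s = ψ s.1 • proj ψ x y s := by
  have h1 : (1 : ZMod p).val = 1 := ZMod.val_one p
  unfold proj
  rw [Finset.mul_sum, Finset.smul_sum]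
  refine Fintype.sum_equiv (Equiv.addLeft (1 : ZMod p)) _ _ fun i => ?_
  rw [Finset.mul_sum, Finset.smul_sum]
  refine Finset.sum_congr rfl fun j _ => ?_
  rw [Equiv.coe_addLeft, pw_add hx, h1, pow_one, mul_smul_comm, smul_smul, ← AddChar.map_add_eq_mul,
    mul_assoc]
  congr 2
  ring

theorem mul_proj_right (hy : y ^ p = 1) (hxy : Commute x y) (s : ZMod p × ZMod p) :
    y * proj ψ x y s = ψ s.2 • proj ψ x y s := by
  have h1 : (1 : ZMod p).val = 1 := ZMod.val_one p
  unfold proj
  rw [Finset.mul_sum, Finset.smul_sum]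
  refine Finset.sum_congr rfl fun i _ => ?_
  rw [Finset.mul_sum, Finset.smul_sum]
  refine Fintype.sum_equiv (Equiv.addLeft (1 : ZMod p)) _ _ fun j => ?_
  rw [Equiv.coe_addLeft, pw_add hy, h1, pow_one, mul_smul_comm, smul_smul, ← AddChar.map_add_eq_mul,
    ← mul_assoc, (hxy.symm.pow_right i.val).eq, mul_assoc]
  congr 2
  ring

theorem sum_proj (hψ : ψ.IsPrimitive) :
    ∑ s : ZMod p × ZMod p, proj ψ x y s = ((p : K) * p) • (1 : Module.End K V) := by
  classical
  have h1 : ∑ s : ZMod p × ZMod p, proj ψ x y s =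
      ∑ i : ZMod p, ∑ j : ZMod p, (∑ s : ZMod p × ZMod p, ψ (-(s.1 * i + s.2 * j))) • (x ^ i.val * y ^ j.val) := by
    unfold proj
    rw [Finset.sum_comm]
    refine Finset.sum_congr rfl fun i _ => ?_
    rw [Finset.sum_comm]
    refine Finset.sum_congr rfl fun j _ => ?_
    rw [Finset.sum_smul]
  have h2 : ∀ i j : ZMod p, (∑ s : ZMod p × ZMod p, ψ (-(s.1 * i + s.2 * j))) =
      (if i = 0 then (p : K) else 0) * (if j = 0 then (p : K) else 0) := by
    intro i j
    have h3 : ∀ b : ZMod p, ∑ a : ZMod p, ψ (-(a * b)) = if b = 0 then (p : K) else 0 := by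
      intro b
      have h4 := AddChar.sum_mulShift (-b) hψ
      rw [ZMod.card] at h4
      simp only [neg_eq_zero] at h4
      have h5 : ∀ a : ZMod p, a * -b = -(a * b) := fun a => by ring
      simp only [h5] at h4
      rw [h4]
      split_ifs <;> simp only [_root_.Nat.cast_zero]
    rw [← h3 i, ← h3 j, Finset.sum_mul_sum, Fintype.sum_prod_type]
    refine Finset.sum_congr rfl fun a _ => Finset.sum_congr rfl fun b _ => ?_
    rw [← AddChar.map_add_eq_mul]
    congr 1
    ring
  rw [h1, Finset.sum_eq_single (0 : ZMod p), Finset.sum_eq_single (0 : ZMod p), h2]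
  · simp only [↓ _root_.reduceIte, _root_.ZMod.val_zero, _root_.pow_zero, _root_.mul_one]
  · intro j _ hj
    rw [h2, if_neg hj, mul_zero, zero_smul]
  · intro h; exact absurd (Finset.mem_univ _) h
  · intro i _ hi
    refine Finset.sum_eq_zero fun j _ => ?_
    rw [h2, if_neg hi, zero_mul, zero_smul]
  · intro h; exact absurd (Finset.mem_univ _) h

theorem pow_eigen {z : Module.End K V} {v : V} {c : K} (h : z v = c • v) (n : ℕ) :
    (z ^ n) v = c ^ n • v := by
  induction n with
  | zero => simp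
  | succ n ih => rw [pow_succ', Module.End.mul_apply, ih, map_smul, h, smul_smul, pow_succ]

theorem psi_mul (ψ : AddChar (ZMod p) K) (t i : ZMod p) : ψ t ^ i.val = ψ (t * i) := by
  rw [← AddChar.map_nsmul_eq_pow]
  congr 1
  rw [nsmul_eq_mul, ZMod.natCast_zmod_val, mul_comm]

theorem proj_eigen (hψ : ψ.IsPrimitive) {v : V} {t : ZMod p × ZMod p}
    (h1 : x v = ψ t.1 • v) (h2 : y v = ψ t.2 • v) (s : ZMod p × ZMod p) :
    proj ψ x y s v = (if s = t then (p : K) * p else 0) • v := by
  classical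
  have h3 : proj ψ x y s v = (∑ i : ZMod p, ∑ j : ZMod p, ψ ((t.1 - s.1) * i) * ψ ((t.2 - s.2) * j)) • v := by
    unfold proj
    rw [LinearMap.sum_apply, Finset.sum_smul]
    refine Finset.sum_congr rfl fun i _ => ?_
    rw [LinearMap.sum_apply, Finset.sum_smul]
    refine Finset.sum_congr rfl fun j _ => ?_
    rw [LinearMap.smul_apply, Module.End.mul_apply, pow_eigen h2, map_smul, pow_eigen h1, smul_smul,
      smul_smul, psi_mul, psi_mul, ← AddChar.map_add_eq_mul, ← AddChar.map_add_eq_mul,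
      ← AddChar.map_add_eq_mul]
    congr 2
    ring
  have h4 : ∀ b : ZMod p, ∑ a : ZMod p, ψ (b * a) = if b = 0 then (p : K) else 0 := by
    intro b
    have h4 := AddChar.sum_mulShift b hψ
    rw [ZMod.card] at h4
    simp only [mul_comm b]
    rw [h4]
    split_ifs <;> simp only [_root_.Nat.cast_zero]
  rw [h3, ← Finset.sum_mul_sum, h4, h4]
  congr 1
  by_cases h : s = t
  · subst h; simp
  · rw [if_neg h]
    by_cases h5 : t.1 - s.1 = 0
    · have h6 : t.2 - s.2 ≠ 0 := fun h6 => h (Prod.ext (sub_eq_zero.1 h5).symm (sub_eq_zero.1 h6).symm)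
      rw [if_neg h6, mul_zero]
    · rw [if_neg h5, zero_mul]

/-- every vector is a sum of eigenvectors: if an operator kills all joint eigenvectors, it is zero -/
theorem eq_zero_of_eigen (hψ : ψ.IsPrimitive) (hpK : (p : K) ≠ 0) (hx : x ^ p = 1) (hy : y ^ p = 1)
    (hxy : Commute x y) (z : Module.End K V)
    (h : ∀ s : ZMod p × ZMod p, ∀ v : V, x v = ψ s.1 • v → y v = ψ s.2 • v → z v = 0) : z = 0 := by
  ext v
  have h1 : ((p : K) * p) • v = ∑ s : ZMod p × ZMod p, proj ψ x y s v := by
    have := congrArg (fun T : Module.End K V => T v) (sum_proj (x := x) (y := y) hψ)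
    simp only [LinearMap.sum_apply, LinearMap.smul_apply, Module.End.one_apply] at this
    exact this.symm
  have h2 : ((p : K) * p) • z v = 0 := by
    rw [← map_smul, h1, map_sum]
    refine Finset.sum_eq_zero fun s _ => h s _ ?_ ?_
    · rw [← Module.End.mul_apply, mul_proj_left hx, LinearMap.smul_apply]
    · rw [← Module.End.mul_apply, mul_proj_right hy hxy, LinearMap.smul_apply]
  rw [smul_eq_zero] at h2
  rcases h2 with h2 | h2
  · exact absurd h2 (mul_ne_zero hpK hpK)
  · rw [h2, LinearMap.zero_apply]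

/-- the number of occurring characters is at most the dimension -/
theorem card_le_finrank [FiniteDimensional K V] (hψ : ψ.IsPrimitive) (hpK : (p : K) ≠ 0)
    (S : Finset (ZMod p × ZMod p)) (hS : ∀ s ∈ S, Occ ψ x y s) : S.card ≤ Module.finrank K V := by
  classical
  choose! v hv0 hv1 hv2 using hS
  have hli : LinearIndependent K (fun s : S => v s) := by
    rw [Fintype.linearIndependent_iff]
    intro g hg t
    have h1 := congrArg (proj ψ x y (t : ZMod p × ZMod p)) hg
    rw [map_sum, map_zero, Finset.sum_eq_single t] at h1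
    · rw [map_smul, proj_eigen hψ (hv1 t t.2) (hv2 t t.2), if_pos rfl, smul_smul, smul_eq_zero] at h1
      rcases h1 with h1 | h1
      · rcases mul_eq_zero.1 h1 with h2 | h2
        · exact h2
        · exact absurd h2 (mul_ne_zero hpK hpK)
      · exact absurd h1 (hv0 t t.2)
    · intro s _ hst
      rw [map_smul, proj_eigen hψ (hv1 s s.2) (hv2 s s.2), if_neg (fun h => hst (Subtype.ext h.symm)),
        zero_smul, smul_zero]
    · intro h; exact absurd (Finset.mem_univ _) h
  have := hli.fintype_card_le_finrank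
  rwa [Fintype.card_coe] at this

/-- two linearly independent characters occur -/
theorem exists_indep (hψ : ψ.IsPrimitive) (hpK : (p : K) ≠ 0) (hx : x ^ p = 1) (hy : y ^ p = 1)
    (hxy : Commute x y)
    (hfaith : ∀ i j : ℕ, x ^ i * y ^ j = 1 → p ∣ i ∧ p ∣ j) :
    ∃ s t : ZMod p × ZMod p, Occ ψ x y s ∧ Occ ψ x y t ∧ s.1 * t.2 ≠ s.2 * t.1 := by
  classical
  by_contra hcon
  push Not at hcon
  -- a nontrivial element trivial on all the characters
  have key : ∃ i j : ZMod p, ¬ (i = 0 ∧ j = 0) ∧ ∀ s, Occ ψ x y s → s.1 * i + s.2 * j = 0 := by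
    by_cases h0 : ∀ s, Occ ψ x y s → s = 0
    · exact ⟨1, 0, by simp, fun s hs => by rw [h0 s hs]; simp⟩
    · push Not at h0
      obtain ⟨s, hs, hs0⟩ := h0
      refine ⟨s.2, -s.1, fun h => hs0 (Prod.ext (neg_eq_zero.1 h.2) h.1), fun t ht => ?_⟩
      have := hcon s t hs ht
      linear_combination -this
  obtain ⟨i, j, hij, hall⟩ := key
  have h1 : x ^ i.val * y ^ j.val = 1 := by
    have h2 : x ^ i.val * y ^ j.val - 1 = 0 := by
      refine eq_zero_of_eigen hψ hpK hx hy hxy _ fun s v hv1 hv2 => ?_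
      rw [LinearMap.sub_apply, Module.End.mul_apply, pow_eigen hv2, map_smul, pow_eigen hv1,
        Module.End.one_apply, smul_smul, psi_mul, psi_mul, ← AddChar.map_add_eq_mul]
      by_cases hv : v = 0
      · rw [hv]; simp only [_root_.smul_zero, _root_.sub_self]
      · have h3 := hall s ⟨v, hv, hv1, hv2⟩
        rw [show s.2 * j + s.1 * i = 0 by rw [← h3]; ring, AddChar.map_zero_eq_one, one_smul, sub_self]
    exact sub_eq_zero.1 h2
  have h2 := hfaith _ _ h1
  apply hij
  constructor
  · have h3 := (ZMod.natCast_eq_zero_iff _ _).2 h2.1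
    rwa [ZMod.natCast_zmod_val] at h3
  · have h3 := (ZMod.natCast_eq_zero_iff _ _).2 h2.2
    rwa [ZMod.natCast_zmod_val] at h3

/-- **Dimension bound.** -/
theorem two_mul_card_le [FiniteDimensional K V] (hψ : ψ.IsPrimitive) (hpK : (p : K) ≠ 0)
    (hx : x ^ p = 1) (hy : y ^ p = 1) (hxy : Commute x y)
    (hfaith : ∀ i j : ℕ, x ^ i * y ^ j = 1 → p ∣ i ∧ p ∣ j)
    (U : Subgroup (ZMod p)ˣ)
    (hU : ∀ u ∈ U, ∀ s : ZMod p × ZMod p, Occ ψ x y s → Occ ψ x y ((u : ZMod p) * s.1, (u : ZMod p) * s.2)) :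
    2 * Nat.card U ≤ Module.finrank K V ∧
      ((∃ v : V, v ≠ 0 ∧ x v = v ∧ y v = v) → 2 * Nat.card U + 1 ≤ Module.finrank K V) := by
  classical
  obtain ⟨s, t, hs, ht, hst⟩ := exists_indep hψ hpK hx hy hxy hfaith
  let _ : Fintype U := Fintype.ofFinite U
  let f : (ZMod p × ZMod p) → U → ZMod p × ZMod p := fun s u => (((u : (ZMod p)ˣ) : ZMod p) * s.1, ((u : (ZMod p)ˣ) : ZMod p) * s.2)
  have hne : ∀ s : ZMod p × ZMod p, s ≠ 0 → Function.Injective (f s) := by
    intro s hs u v huv
    have h1 := congrArg Prod.fst huv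
    have h2 := congrArg Prod.snd huv
    apply Subtype.ext
    apply Units.ext
    by_cases h3 : s.1 = 0
    · have h4 : s.2 ≠ 0 := fun h4 => hs (Prod.ext h3 h4)
      exact mul_right_cancel₀ h4 h2
    · exact mul_right_cancel₀ h3 h1
  have hs0 : s ≠ 0 := by
    rintro rfl
    apply hst
    simp
  have ht0 : t ≠ 0 := by
    rintro rfl
    apply hst
    simp
  let A := Finset.univ.image (f s)
  let B := Finset.univ.image (f t)
  have hA : A.card = Nat.card U := by
    rw [Finset.card_image_of_injective _ (hne s hs0), Finset.card_univ, Nat.card_eq_fintype_card]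
  have hB : B.card = Nat.card U := by
    rw [Finset.card_image_of_injective _ (hne t ht0), Finset.card_univ, Nat.card_eq_fintype_card]
  have hAB : Disjoint A B := by
    rw [Finset.disjoint_left]
    intro a ha hb
    obtain ⟨u, _, hu⟩ := Finset.mem_image.1 ha
    obtain ⟨v, _, hv⟩ := Finset.mem_image.1 hb
    have h1 : ((u : (ZMod p)ˣ) : ZMod p) * s.1 = ((v : (ZMod p)ˣ) : ZMod p) * t.1 := by
      rw [← hv] at hu
      exact congrArg Prod.fst hu
    have h2 : ((u : (ZMod p)ˣ) : ZMod p) * s.2 = ((v : (ZMod p)ˣ) : ZMod p) * t.2 := by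
      rw [← hv] at hu
      exact congrArg Prod.snd hu
    apply hst
    have hu0 : ((u : (ZMod p)ˣ) : ZMod p) ≠ 0 := Units.ne_zero _
    have hv0 : ((v : (ZMod p)ˣ) : ZMod p) ≠ 0 := Units.ne_zero _
    apply mul_left_cancel₀ (mul_ne_zero hu0 hv0)
    linear_combination (((v : (ZMod p)ˣ) : ZMod p) * t.2) * h1 - (((v : (ZMod p)ˣ) : ZMod p) * t.1) * h2
  have hAocc : ∀ a ∈ A, Occ ψ x y a := by
    intro a ha
    obtain ⟨u, _, rfl⟩ := Finset.mem_image.1 ha
    exact hU u u.2 s hs
  have hBocc : ∀ a ∈ B, Occ ψ x y a := by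
    intro a ha
    obtain ⟨u, _, rfl⟩ := Finset.mem_image.1 ha
    exact hU u u.2 t ht
  have hUocc : ∀ a ∈ A ∪ B, Occ ψ x y a := by
    intro a ha
    rcases Finset.mem_union.1 ha with h | h
    · exact hAocc a h
    · exact hBocc a h
  have hcard : (A ∪ B).card = 2 * Nat.card U := by
    rw [Finset.card_union_of_disjoint hAB, hA, hB]; ring
  refine ⟨?_, ?_⟩
  · rw [← hcard]
    exact card_le_finrank hψ hpK _ hUocc
  · rintro ⟨v, hv0, hv1, hv2⟩
    have h0 : (0 : ZMod p × ZMod p) ∉ A ∪ B := by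
      intro h
      rcases Finset.mem_union.1 h with h | h
      · obtain ⟨u, _, hu⟩ := Finset.mem_image.1 h
        have h1 : ((u : (ZMod p)ˣ) : ZMod p) * s.1 = 0 := congrArg Prod.fst hu
        have h2 : ((u : (ZMod p)ˣ) : ZMod p) * s.2 = 0 := congrArg Prod.snd hu
        exact hs0 (Prod.ext ((mul_eq_zero.1 h1).resolve_left (Units.ne_zero _))
          ((mul_eq_zero.1 h2).resolve_left (Units.ne_zero _)))
      · obtain ⟨u, _, hu⟩ := Finset.mem_image.1 h
        have h1 : ((u : (ZMod p)ˣ) : ZMod p) * t.1 = 0 := congrArg Prod.fst hu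
        have h2 : ((u : (ZMod p)ˣ) : ZMod p) * t.2 = 0 := congrArg Prod.snd hu
        exact ht0 (Prod.ext ((mul_eq_zero.1 h1).resolve_left (Units.ne_zero _))
          ((mul_eq_zero.1 h2).resolve_left (Units.ne_zero _)))
    have h1 : ∀ a ∈ insert 0 (A ∪ B), Occ ψ x y a := by
      intro a ha
      rcases Finset.mem_insert.1 ha with rfl | h
      · exact ⟨v, hv0, by simpa using hv1, by simpa using hv2⟩
      · exact hUocc a h
    have h2 := card_le_finrank hψ hpK _ h1
    rw [Finset.card_insert_of_notMem h0, hcard] at h2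
    exact h2

end Cfsg.Agent.H104.CharSupp
end

-- part: H104/RankBound
section
/-!
# Dimension bounds for rank two elementary abelian subgroups of classical groups

`p` a prime different from the characteristic of the finite field `F` with `q` elements; `ρ` an
injective homomorphism of a group with `Rank2 p` to the invertible matrices over `F`.

* `bound_linear` : `2 · ord_p(q) ≤ n`;
* `bound_form` : if a nondegenerate bilinear form is preserved, `2 · |⟨q, -1⟩| ≤ n`, and `<` if
  there is a common fixed vector;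
* `bound_unitary` : if the standard hermitian form is preserved (`|F| = q ^ 2`), `2 · ord_p(-q) ≤ n`.
-/

set_option autoImplicit false

namespace Cfsg.Agent.H104.RankBound

open Finset CharSupp TwoLines
open scoped Matrix

section general

variable {K V : Type*} [Field K] [AddCommGroup V] [Module K V] {p : ℕ} [hp : Fact p.Prime]
variable {ψ : AddChar (ZMod p) K} {x y : Module.End K V}

/-- the scalars under which the set of occurring characters is invariant -/
def stab (ψ : AddChar (ZMod p) K) (x y : Module.End K V) : Subgroup (ZMod p)ˣ where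
  carrier := {u | ∀ s : ZMod p × ZMod p, Occ ψ x y s → Occ ψ x y ((u : ZMod p) * s.1, (u : ZMod p) * s.2)}
  one_mem' := fun s hs => by simpa using hs
  mul_mem' := fun {u v} hu hv s hs => by
    have h1 := hu _ (hv s hs)
    simpa [mul_assoc] using h1
  inv_mem' := fun {u} hu => by
    have h1 : u⁻¹ = u ^ (orderOf u - 1) := by
      rw [eq_comm, ← mul_right_inj u, mul_inv_cancel, ← pow_succ', Nat.sub_add_cancel (orderOf_pos u),
        pow_orderOf_eq_one]
    have h2 : ∀ n : ℕ, ∀ s : ZMod p × ZMod p, Occ ψ x y s →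
        Occ ψ x y (((u ^ n : (ZMod p)ˣ) : ZMod p) * s.1, ((u ^ n : (ZMod p)ˣ) : ZMod p) * s.2) := by
      intro n
      induction n with
      | zero => intro s hs; simpa using hs
      | succ n ih =>
        intro s hs
        have h3 := hu _ (ih s hs)
        rw [pow_succ']
        simpa [mul_assoc] using h3
    change ∀ s : ZMod p × ZMod p, _
    rw [h1]
    exact h2 _

/-- an invariant pairing, linear in the first and additive in the second variable -/
theorem occ_of_pairing (hψ : ψ.IsPrimitive) (hpK : (p : K) ≠ 0) (hx : x ^ p = 1) (hy : y ^ p = 1)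
    (hxy : Commute x y) (β : V → V →+ K) (m : ℕ)
    (hsl : ∀ (c : K) (v w : V), β (c • v) w = c * β v w)
    (hsr : ∀ (c : K) (v w : V), β v (c • w) = c ^ m * β v w)
    (hnd : ∀ v : V, v ≠ 0 → ∃ w, β v w ≠ 0)
    (hβx : ∀ v w : V, β (x v) (x w) = β v w) (hβy : ∀ v w : V, β (y v) (y w) = β v w)
    {s : ZMod p × ZMod p} (hs : Occ ψ x y s) :
    ∃ t : ZMod p × ZMod p, Occ ψ x y t ∧ s.1 + m * t.1 = 0 ∧ s.2 + m * t.2 = 0 := by
  classical
  obtain ⟨v, hv0, hv1, hv2⟩ := hs
  obtain ⟨w, hw⟩ := hnd v hv0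
  have h1 : ((p : K) * p) • w = ∑ t : ZMod p × ZMod p, proj ψ x y t w := by
    have := congrArg (fun T : Module.End K V => T w) (sum_proj (x := x) (y := y) hψ)
    simp only [LinearMap.sum_apply, LinearMap.smul_apply, Module.End.one_apply] at this
    exact this.symm
  have h2 : β v (((p : K) * p) • w) ≠ 0 := by
    rw [hsr]
    exact mul_ne_zero (pow_ne_zero _ (mul_ne_zero hpK hpK)) hw
  rw [h1, map_sum] at h2
  obtain ⟨t, _, ht⟩ := Finset.exists_ne_zero_of_sum_ne_zero h2
  have ht0 : proj ψ x y t w ≠ 0 := by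
    intro h
    rw [h, map_zero] at ht
    exact ht rfl
  have hprim : ∀ a : ZMod p, ψ a = 1 → a = 0 := by
    intro a ha
    by_contra h
    apply hψ h
    ext b
    rw [AddChar.mulShift_apply, AddChar.one_apply, ← psi_mul, ha, one_pow]
  have hpow : ∀ a : ZMod p, (ψ a) ^ m = ψ (m * a) := by
    intro a
    rw [← AddChar.map_nsmul_eq_pow, nsmul_eq_mul]
  have e1 : x (proj ψ x y t w) = ψ t.1 • proj ψ x y t w := by
    rw [← Module.End.mul_apply, mul_proj_left hx, LinearMap.smul_apply]
  have e2 : y (proj ψ x y t w) = ψ t.2 • proj ψ x y t w := by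
    rw [← Module.End.mul_apply, mul_proj_right hy hxy, LinearMap.smul_apply]
  refine ⟨t, ⟨_, ht0, e1, e2⟩, ?_, ?_⟩
  · have h3 := hβx v (proj ψ x y t w)
    rw [e1, hv1, hsl, hsr, hpow, ← mul_assoc, ← AddChar.map_add_eq_mul] at h3
    exact hprim _ (mul_right_cancel₀ ht (by rw [h3, one_mul]))
  · have h3 := hβy v (proj ψ x y t w)
    rw [e2, hv2, hsl, hsr, hpow, ← mul_assoc, ← AddChar.map_add_eq_mul] at h3
    exact hprim _ (mul_right_cancel₀ ht (by rw [h3, one_mul]))

end general

section matrices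

variable {F : Type*} [Field F] [Fintype F] {ι : Type*} [Fintype ι] [DecidableEq ι] {p : ℕ}
  [hp : Fact p.Prime]

/-- the operator over the algebraic closure -/
noncomputable abbrev opK (F : Type*) [Field F] {ι : Type*} [Fintype ι] [DecidableEq ι] :
    Matrix ι ι F →* Module.End (AlgebraicClosure F) (ι → AlgebraicClosure F) :=
  (Matrix.toLinAlgEquiv' : Matrix ι ι (AlgebraicClosure F) ≃ₐ[AlgebraicClosure F] _).toMonoidHom.comp
    ((algebraMap F (AlgebraicClosure F)).mapMatrix.toMonoidHom)

omit [Fintype F] in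
theorem opK_apply (A : Matrix ι ι F) (v : ι → AlgebraicClosure F) :
    opK F A v = (A.map (algebraMap F (AlgebraicClosure F))) *ᵥ v := rfl

omit [Fintype F] in
theorem opK_injective : Function.Injective (opK F (ι := ι)) := by
  intro A B h
  have h1 : A.map (algebraMap F (AlgebraicClosure F)) = B.map (algebraMap F (AlgebraicClosure F)) :=
    (Matrix.toLinAlgEquiv' : Matrix ι ι (AlgebraicClosure F) ≃ₐ[AlgebraicClosure F] _).injective h
  exact Matrix.map_injective (algebraMap F (AlgebraicClosure F)).injective h1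

omit [Fintype F] in
theorem exists_char (hpF : (p : F) ≠ 0) :
    ∃ ψ : AddChar (ZMod p) (AlgebraicClosure F), ψ.IsPrimitive := by
  have h1 : ((p : ℕ) : AlgebraicClosure F) ≠ 0 := by
    intro h
    apply hpF
    apply (algebraMap F (AlgebraicClosure F)).injective
    rw [map_natCast, h, map_zero]
  have : NeZero ((p : ℕ) : AlgebraicClosure F) := ⟨h1⟩
  obtain ⟨ζ, hζ⟩ := HasEnoughRootsOfUnity.exists_primitiveRoot (AlgebraicClosure F) p
  exact ⟨_, AddChar.zmodChar_primitive_of_primitive_root p hζ⟩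

omit [Fintype F] hp in
theorem cast_ne_zero (hpF : (p : F) ≠ 0) : ((p : ℕ) : AlgebraicClosure F) ≠ 0 := by
  intro h
  apply hpF
  apply (algebraMap F (AlgebraicClosure F)).injective
  rw [map_natCast, h, map_zero]

/-- Frobenius, entrywise -/
theorem frob_mulVec (A : Matrix ι ι F) (v : ι → AlgebraicClosure F) :
    opK F A (fun i => v i ^ Fintype.card F) = fun i => (opK F A v i) ^ Fintype.card F := by
  funext i
  rw [opK_apply, opK_apply, Matrix.mulVec, Matrix.mulVec, dotProduct, dotProduct]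
  have h1 : ∀ f : ι → AlgebraicClosure F, (∑ j, f j) ^ Fintype.card F = ∑ j, (f j) ^ Fintype.card F := by
    intro f
    have h2 : ∀ a : AlgebraicClosure F, a ^ Fintype.card F = FiniteField.frobeniusAlgHom F (AlgebraicClosure F) a :=
      fun a => rfl
    rw [h2, map_sum]
    rfl
  rw [h1]
  refine Finset.sum_congr rfl fun j _ => ?_
  rw [mul_pow, Matrix.map_apply, ← map_pow, FiniteField.pow_card]

/-- the order `q` of the field as a unit modulo `p` -/
theorem card_ne_zero (hpF : (p : F) ≠ 0) : ((Fintype.card F : ℕ) : ZMod p) ≠ 0 := by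
  rw [Ne, ZMod.natCast_eq_zero_iff]
  intro hd
  apply hpF
  obtain ⟨r, hr⟩ := CharP.exists F
  obtain ⟨n, hr', hn⟩ := FiniteField.card F r
  rw [hn] at hd
  have h5 := hp.out.dvd_of_dvd_pow hd
  rw [(Nat.prime_dvd_prime_iff_eq hp.out hr').1 h5]
  exact CharP.cast_eq_zero F r

/-- invariance under Frobenius -/
theorem frob_mem_stab {ψ : AddChar (ZMod p) (AlgebraicClosure F)} (A B : Matrix ι ι F)
    (u : (ZMod p)ˣ) (hu : (u : ZMod p) = (Fintype.card F : ℕ)) : u ∈ stab ψ (opK F A) (opK F B) := by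
  rintro s ⟨v, hv0, hv1, hv2⟩
  have hpow : ∀ a : ZMod p, (ψ a) ^ Fintype.card F = ψ ((Fintype.card F : ℕ) * a) := by
    intro a
    rw [← AddChar.map_nsmul_eq_pow, nsmul_eq_mul]
  refine ⟨fun i => v i ^ Fintype.card F, ?_, ?_, ?_⟩
  · intro h
    apply hv0
    funext i
    exact pow_eq_zero_iff (Fintype.card_ne_zero) |>.1 (congrFun h i)
  · rw [frob_mulVec, hv1]
    funext i
    rw [Pi.smul_apply, Pi.smul_apply, smul_eq_mul, smul_eq_mul, mul_pow, hpow, hu]
  · rw [frob_mulVec, hv2]
    funext i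
    rw [Pi.smul_apply, Pi.smul_apply, smul_eq_mul, smul_eq_mul, mul_pow, hpow, hu]

omit [Fintype F] in
/-- invariance under `-1` from a bilinear form -/
theorem neg_mem_stab {ψ : AddChar (ZMod p) (AlgebraicClosure F)} (hψ : ψ.IsPrimitive)
    (hpF : (p : F) ≠ 0) {A B : Matrix ι ι F} (hA : A ^ p = 1) (hB : B ^ p = 1) (hAB : A * B = B * A)
    (J : Matrix ι ι F) (hJ : IsUnit J.det) (hAJ : A.transpose * J * A = J)
    (hBJ : B.transpose * J * B = J) : (-1 : (ZMod p)ˣ) ∈ stab ψ (opK F A) (opK F B) := by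
  intro s hs
  let φ := algebraMap F (AlgebraicClosure F)
  let β : (ι → AlgebraicClosure F) → (ι → AlgebraicClosure F) →+ AlgebraicClosure F := fun v =>
    { toFun := fun w => v ⬝ᵥ ((J.map φ) *ᵥ w)
      map_zero' := by rw [Matrix.mulVec_zero, dotProduct_zero]
      map_add' := fun w w' => by rw [Matrix.mulVec_add, dotProduct_add] }
  have hβ : ∀ C : Matrix ι ι F, C.transpose * J * C = J → ∀ v w, β (opK F C v) (opK F C w) = β v w := by
    intro C hC v w
    change (C.map φ *ᵥ v) ⬝ᵥ ((J.map φ) *ᵥ (C.map φ *ᵥ w)) = v ⬝ᵥ ((J.map φ) *ᵥ w)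
    have h1 : (C.map φ).transpose * J.map φ * C.map φ = J.map φ := by
      rw [← Matrix.transpose_map, ← Matrix.map_mul, ← Matrix.map_mul, hC]
    rw [← Matrix.vecMul_transpose, ← Matrix.dotProduct_mulVec, Matrix.mulVec_mulVec, Matrix.mulVec_mulVec,
      h1]
  obtain ⟨t, ht, h1, h2⟩ := occ_of_pairing hψ (cast_ne_zero hpF) (x := opK F A) (y := opK F B)
    (by rw [← map_pow, hA, map_one]) (by rw [← map_pow, hB, map_one])
    (by change opK F A * opK F B = opK F B * opK F A; rw [← map_mul, hAB, map_mul]) β 1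
    (fun c v w => by
      change (c • v) ⬝ᵥ _ = c * (v ⬝ᵥ _)
      rw [smul_dotProduct, smul_eq_mul])
    (fun c v w => by
      change v ⬝ᵥ ((J.map φ) *ᵥ (c • w)) = c ^ 1 * (v ⬝ᵥ _)
      rw [Matrix.mulVec_smul, dotProduct_smul, smul_eq_mul, pow_one])
    (fun v hv => by
      obtain ⟨i, hi⟩ : ∃ i, v i ≠ 0 := by
        by_contra h
        push Not at h
        exact hv (funext h)
      refine ⟨(J.map φ)⁻¹ *ᵥ Pi.single i 1, ?_⟩
      change v ⬝ᵥ ((J.map φ) *ᵥ ((J.map φ)⁻¹ *ᵥ Pi.single i 1)) ≠ 0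
      have hdet : IsUnit (J.map φ).det := by
        have h1 : (J.map φ).det = φ J.det := (RingHom.map_det φ J).symm
        rw [h1]
        exact hJ.map φ
      rw [Matrix.mulVec_mulVec, Matrix.mul_nonsing_inv _ hdet, Matrix.one_mulVec, dotProduct_single_one]
      exact hi)
    (hβ A hAJ) (hβ B hBJ) hs
  have h3 : t = (((-1 : (ZMod p)ˣ) : ZMod p) * s.1, ((-1 : (ZMod p)ˣ) : ZMod p) * s.2) := by
    apply Prod.ext
    · simp only [Units.val_neg, Units.val_one, Nat.cast_one, one_mul] at h1 ⊢
      linear_combination h1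
    · simp only [Units.val_neg, Units.val_one, Nat.cast_one, one_mul] at h2 ⊢
      linear_combination h2
  rw [← h3]
  exact ht

/-- additivity of `x ↦ x ^ q` when `q ^ 2 = |F|` -/
theorem exists_frob {q : ℕ} (hF : Fintype.card F = q ^ 2) :
    q ≠ 0 ∧ ∃ f : AlgebraicClosure F →+* AlgebraicClosure F, ∀ a, f a = a ^ q := by
  obtain ⟨r, hr⟩ := CharP.exists F
  obtain ⟨n, hr', hn⟩ := FiniteField.card F r
  have : Fact r.Prime := ⟨hr'⟩
  have hrK : CharP (AlgebraicClosure F) r := charP_of_injective_algebraMap (algebraMap F _).injective r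
  have h1 : q ∣ r ^ (n : ℕ) := by
    rw [← hn, hF]
    exact dvd_pow_self q (by norm_num)
  obtain ⟨j, _, rfl⟩ := (Nat.dvd_prime_pow hr').1 h1
  refine ⟨pow_ne_zero _ hr'.ne_zero, iterateFrobenius (AlgebraicClosure F) r j, fun a => ?_⟩
  rw [iterateFrobenius_def]

/-- invariance under `-q` from the hermitian form -/
theorem unitary_mem_stab {ψ : AddChar (ZMod p) (AlgebraicClosure F)} (hψ : ψ.IsPrimitive)
    (hpF : (p : F) ≠ 0) {q : ℕ} (hF : Fintype.card F = q ^ 2)
    {A B : Matrix ι ι F} (hA : A ^ p = 1) (hB : B ^ p = 1) (hAB : A * B = B * A)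
    (hAJ : A.transpose * A.map (fun a => a ^ q) = 1)
    (hBJ : B.transpose * B.map (fun a => a ^ q) = 1) (u : (ZMod p)ˣ) (hu : (u : ZMod p) = -(q : ZMod p)) :
    u ∈ stab ψ (opK F A) (opK F B) := by
  rw [← inv_mem_iff]
  intro s hs
  let φ := algebraMap F (AlgebraicClosure F)
  obtain ⟨hq0, f, hf⟩ := exists_frob hF
  let β : (ι → AlgebraicClosure F) → (ι → AlgebraicClosure F) →+ AlgebraicClosure F := fun v =>
    { toFun := fun w => v ⬝ᵥ (fun i => f (w i))
      map_zero' := by
        simp only [_root_.Pi.zero_apply, _root_.map_zero, _root_.dotProduct_zero']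
      map_add' := fun w w' => by
        rw [← dotProduct_add]
        congr 1
        funext i
        simp only [_root_.Pi.add_apply, _root_.map_add] }
  have hβ : ∀ C : Matrix ι ι F, C.transpose * C.map (fun a => a ^ q) = 1 →
      ∀ v w, β (opK F C v) (opK F C w) = β v w := by
    intro C hC v w
    change (C.map φ *ᵥ v) ⬝ᵥ (fun i => f ((C.map φ *ᵥ w) i)) = v ⬝ᵥ (fun i => f (w i))
    have h0 : (fun i => f ((C.map φ *ᵥ w) i)) = ((C.map (fun a => a ^ q)).map φ) *ᵥ (fun i => f (w i)) := by
      funext i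
      rw [Matrix.mulVec, Matrix.mulVec, dotProduct, dotProduct, map_sum]
      refine Finset.sum_congr rfl fun j _ => ?_
      rw [map_mul, Matrix.map_apply, Matrix.map_apply, Matrix.map_apply, hf (φ (C i j)), map_pow]
    have h1 : (C.map φ).transpose * (C.map (fun a => a ^ q)).map φ = 1 := by
      rw [← Matrix.transpose_map, ← Matrix.map_mul, hC, Matrix.map_one _ (map_zero _) (map_one _)]
    rw [h0, ← Matrix.vecMul_transpose, ← Matrix.dotProduct_mulVec, Matrix.mulVec_mulVec, h1,
      Matrix.one_mulVec]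
  obtain ⟨t, ht, h1, h2⟩ := occ_of_pairing hψ (cast_ne_zero hpF) (x := opK F A) (y := opK F B)
    (by rw [← map_pow, hA, map_one]) (by rw [← map_pow, hB, map_one])
    (by change opK F A * opK F B = opK F B * opK F A; rw [← map_mul, hAB, map_mul]) β q
    (fun c v w => by
      change (c • v) ⬝ᵥ _ = c * (v ⬝ᵥ _)
      rw [smul_dotProduct, smul_eq_mul])
    (fun c v w => by
      change v ⬝ᵥ (fun i => f ((c • w) i)) = c ^ q * (v ⬝ᵥ (fun i => f (w i)))
      rw [← hf c, ← smul_eq_mul, ← dotProduct_smul]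
      congr 1
      funext i
      simp)
    (fun v hv => by
      obtain ⟨i, hi⟩ : ∃ i, v i ≠ 0 := by
        by_contra h
        push Not at h
        exact hv (funext h)
      refine ⟨Pi.single i 1, ?_⟩
      change v ⬝ᵥ (fun j => f ((Pi.single i (1 : AlgebraicClosure F) : ι → AlgebraicClosure F) j)) ≠ 0
      have h1 : (fun j => f ((Pi.single i (1 : AlgebraicClosure F) : ι → AlgebraicClosure F) j)) =
          Pi.single i 1 := by
        funext j
        by_cases hj : j = i
        · subst hj; simp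
        · simp [hj]
      rw [h1, dotProduct_single_one]
      exact hi)
    (hβ A hAJ) (hβ B hBJ) hs
  have hu0 : (u : ZMod p) ≠ 0 := u.ne_zero
  have h3 : t = (((u⁻¹ : (ZMod p)ˣ) : ZMod p) * s.1, ((u⁻¹ : (ZMod p)ˣ) : ZMod p) * s.2) := by
    apply Prod.ext
    · change t.1 = ((u⁻¹ : (ZMod p)ˣ) : ZMod p) * s.1
      rw [Units.val_inv_eq_inv_val, eq_inv_mul_iff_mul_eq₀ hu0, hu]
      linear_combination -h1
    · change t.2 = ((u⁻¹ : (ZMod p)ˣ) : ZMod p) * s.2
      rw [Units.val_inv_eq_inv_val, eq_inv_mul_iff_mul_eq₀ hu0, hu]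
      linear_combination -h2
  rw [← h3]
  exact ht

/-! ### The bounds -/

variable {G : Type*} [Group G]

omit [Fintype F] in
/-- general form -/
theorem bound (hpF : (p : F) ≠ 0) (ρ : G →* Matrix ι ι F) (hρ : Function.Injective ρ)
    (h : Rank2 p G) (U : Subgroup (ZMod p)ˣ)
    (hU : ∀ ψ : AddChar (ZMod p) (AlgebraicClosure F), ψ.IsPrimitive → ∀ x y : G, x ^ p = 1 → y ^ p = 1 →
      x * y = y * x → U ≤ stab ψ (opK F (ρ x)) (opK F (ρ y))) :
    ∃ x y : G, x ^ p = 1 ∧ y ^ p = 1 ∧ x * y = y * x ∧ 2 * Nat.card U ≤ Fintype.card ι ∧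
      ((∃ v : ι → F, v ≠ 0 ∧ ρ x *ᵥ v = v ∧ ρ y *ᵥ v = v) → 2 * Nat.card U + 1 ≤ Fintype.card ι) := by
  obtain ⟨ψ, hψ⟩ := exists_char (F := F) hpF
  obtain ⟨x, y, hx, hy, hxy, hx1, hyx⟩ := h
  have hfin : Module.finrank (AlgebraicClosure F) (ι → AlgebraicClosure F) = Fintype.card ι :=
    Module.finrank_fintype_fun_eq_card _
  have h1 := two_mul_card_le (x := opK F (ρ x)) (y := opK F (ρ y)) hψ (cast_ne_zero hpF)
    (by rw [← map_pow, ← map_pow, hx, map_one, map_one])
    (by rw [← map_pow, ← map_pow, hy, map_one, map_one])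
    (by
      change opK F (ρ x) * opK F (ρ y) = opK F (ρ y) * opK F (ρ x)
      rw [← map_mul, ← map_mul, hxy, map_mul, map_mul])
    (by
      intro i j hij
      have h2 : x ^ i * y ^ j = 1 := by
        apply hρ
        apply opK_injective
        rw [map_mul, map_mul, map_pow, map_pow, map_pow, map_pow, hij, map_one, map_one]
      have hj : p ∣ j := by
        by_contra hj
        have hcop : Nat.Coprime j p := by
          rw [Nat.coprime_comm, Nat.Prime.coprime_iff_not_dvd hp.out]
          exact hj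
        obtain ⟨w, hw⟩ := Nat.exists_mul_mod_eq_one_of_coprime hcop hp.out.one_lt
        apply hyx
        have h3 : y = (y ^ j) ^ w := by
          rw [← pow_mul, ← Nat.div_add_mod (j * w) p, hw.2, pow_add, pow_mul, hy, one_pow, one_mul,
            pow_one]
        have h4 : y ^ j ∈ Subgroup.zpowers x := by
          rw [eq_inv_of_mul_eq_one_right h2]
          exact inv_mem (Subgroup.pow_mem _ (Subgroup.mem_zpowers x) _)
        rw [h3]
        exact Subgroup.pow_mem _ h4 _
      refine ⟨?_, hj⟩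
      obtain ⟨k, rfl⟩ := hj
      rw [pow_mul, hy, one_pow, mul_one] at h2
      have h3 : orderOf x = p := orderOf_eq_prime hx hx1
      rw [← h3]
      exact orderOf_dvd_of_pow_eq_one h2)
    U (fun u hu s hs => hU ψ hψ x y hx hy hxy hu s hs)
  rw [hfin] at h1
  refine ⟨x, y, hx, hy, hxy, h1.1, ?_⟩
  rintro ⟨v, hv0, hv1, hv2⟩
  apply h1.2
  refine ⟨fun i => algebraMap F (AlgebraicClosure F) (v i), ?_, ?_, ?_⟩
  · intro h
    apply hv0
    funext i
    have := congrFun h i
    simpa using this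
  · funext i
    rw [opK_apply]
    have h2 := congrArg (algebraMap F (AlgebraicClosure F)) (congrFun hv1 i)
    rw [← h2]
    exact (RingHom.map_mulVec _ _ _ i).symm
  · funext i
    rw [opK_apply]
    have h2 := congrArg (algebraMap F (AlgebraicClosure F)) (congrFun hv2 i)
    rw [← h2]
    exact (RingHom.map_mulVec _ _ _ i).symm

/-- the unit `q` modulo `p` -/
noncomputable def qU (F : Type*) [Field F] [Fintype F] (p : ℕ) [hp : Fact p.Prime] (hpF : (p : F) ≠ 0) :
    (ZMod p)ˣ := Units.mk0 ((Fintype.card F : ℕ) : ZMod p) (card_ne_zero hpF)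

theorem qU_coe (hpF : (p : F) ≠ 0) : ((qU F p hpF : (ZMod p)ˣ) : ZMod p) = (Fintype.card F : ℕ) := rfl

/-- **Linear groups**: dimension at least `2 e`. -/
theorem bound_linear (hpF : (p : F) ≠ 0) (ρ : G →* Matrix ι ι F) (hρ : Function.Injective ρ)
    (h : Rank2 p G) : 2 * orderOf (qU F p hpF) ≤ Fintype.card ι := by
  obtain ⟨x, y, -, -, -, h1, -⟩ := bound hpF ρ hρ h (Subgroup.zpowers (qU F p hpF))
    (fun ψ hψ x y hx hy hxy => by
      rw [Subgroup.zpowers_le]
      exact frob_mem_stab _ _ _ (qU_coe hpF))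
  rwa [Nat.card_zpowers] at h1

/-- the group generated by `q` and `-1` modulo `p` -/
noncomputable def qPM (F : Type*) [Field F] [Fintype F] (p : ℕ) [hp : Fact p.Prime] (hpF : (p : F) ≠ 0) :
    Subgroup (ZMod p)ˣ := Subgroup.closure {qU F p hpF, -1}

/-- **Groups preserving a nondegenerate bilinear form**. -/
theorem bound_form (hpF : (p : F) ≠ 0) (ρ : G →* Matrix ι ι F) (hρ : Function.Injective ρ)
    (h : Rank2 p G) (J : Matrix ι ι F) (hJ : IsUnit J.det)
    (hG : ∀ g : G, (ρ g).transpose * J * ρ g = J) :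
    ∃ x y : G, x ^ p = 1 ∧ y ^ p = 1 ∧ x * y = y * x ∧ 2 * Nat.card (qPM F p hpF) ≤ Fintype.card ι ∧
      ((∃ v : ι → F, v ≠ 0 ∧ ρ x *ᵥ v = v ∧ ρ y *ᵥ v = v) →
        2 * Nat.card (qPM F p hpF) + 1 ≤ Fintype.card ι) := by
  refine bound hpF ρ hρ h (qPM F p hpF) (fun ψ hψ x y hx hy hxy => ?_)
  rw [qPM, Subgroup.closure_le]
  rintro u (rfl | rfl)
  · exact frob_mem_stab _ _ _ (qU_coe hpF)
  · exact neg_mem_stab hψ hpF (by rw [← map_pow, hx, map_one]) (by rw [← map_pow, hy, map_one])
      (by rw [← map_mul, hxy, map_mul]) J hJ (hG x) (hG y)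

theorem sq_card_ne_zero (hpF : (p : F) ≠ 0) {q : ℕ} (hF : Fintype.card F = q ^ 2) :
    (-(q : ZMod p)) ≠ 0 := by
  intro h
  apply card_ne_zero (p := p) hpF
  rw [hF, Nat.cast_pow, ← neg_sq, h]
  norm_num

/-- the unit `-q` modulo `p` for `|F| = q ^ 2` -/
noncomputable def negQ (F : Type*) [Field F] [Fintype F] (p : ℕ) [hp : Fact p.Prime] (hpF : (p : F) ≠ 0)
    {q : ℕ} (hF : Fintype.card F = q ^ 2) : (ZMod p)ˣ := Units.mk0 (-(q : ZMod p)) (sq_card_ne_zero hpF hF)

/-- **Unitary groups**: dimension at least `2 d`, `d` the order of `-q` modulo `p`. -/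
theorem bound_unitary (hpF : (p : F) ≠ 0) {q : ℕ} (hF : Fintype.card F = q ^ 2)
    (ρ : G →* Matrix ι ι F) (hρ : Function.Injective ρ) (h : Rank2 p G)
    (hG : ∀ g : G, (ρ g).transpose * (ρ g).map (fun a => a ^ q) = 1) :
    2 * orderOf (negQ F p hpF hF) ≤ Fintype.card ι := by
  obtain ⟨x, y, -, -, -, h1, -⟩ := bound hpF ρ hρ h (Subgroup.zpowers (negQ F p hpF hF))
    (fun ψ hψ x y hx hy hxy => by
      rw [Subgroup.zpowers_le]
      exact unitary_mem_stab hψ hpF hF (by rw [← map_pow, hx, map_one])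
        (by rw [← map_pow, hy, map_one]) (by rw [← map_mul, hxy, map_mul]) (hG x) (hG y) _ rfl)
  rwa [Nat.card_zpowers] at h1

end matrices

end Cfsg.Agent.H104.RankBound
end

private theorem dce_38b0ce351f11 : _root_.True := by
  try have : _root_.True := by simp only [_root_.Cfsg.Agent.H104.RankBound.qPM.eq_1]
  exact _root_.True.intro
end
end
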