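import Mathlib
set_option linter.all false

/-!
# Self-reciprocal irreducible polynomials over a finite field
-/

set_option autoImplicit false

namespace Cfsg.Agent.H104

open Polynomial

variable {F : Type*} [Field F]

theorem reverse_pow' (f : F[X]) (n : ℕ) : (f ^ n).reverse = f.reverse ^ n := by
  induction n with
  | zero => simpa using reverse_C (1 : F)
  | succ n ih => rw [pow_succ, pow_succ, reverse_mul_of_domain, ih]

theorem reverse_dvd {f g : F[X]} (h : f ∣ g) : f.reverse ∣ g.reverse := by
  obtain ⟨k, rfl⟩ := h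
  exact ⟨k.reverse, reverse_mul_of_domain _ _⟩

theorem natTrailingDegree_eq_zero_of {f : F[X]} (h : f.coeff 0 ≠ 0) : f.natTrailingDegree = 0 := by
  apply natTrailingDegree_eq_zero.mpr
  right; exact h

theorem natDegree_reverse_of {f : F[X]} (h : f.coeff 0 ≠ 0) :
    f.reverse.natDegree = f.natDegree := by
  rw [reverse_natDegree, natTrailingDegree_eq_zero_of h, Nat.sub_zero]

theorem reverse_reverse_of {f : F[X]} (h : f.coeff 0 ≠ 0) : f.reverse.reverse = f := by
  ext n
  rw [coeff_reverse, coeff_reverse, natDegree_reverse_of h, revAt_invol]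

theorem reverse_ne_zero {f : F[X]} (h : f.coeff 0 ≠ 0) : f.reverse ≠ 0 := by
  intro h0
  rw [reverse_eq_zero] at h0
  rw [h0] at h
  simp at h

theorem coeff_zero_reverse_ne {f : F[X]} (h : f.coeff 0 ≠ 0) : f.reverse.coeff 0 ≠ 0 := by
  rw [coeff_zero_reverse]
  intro h0
  rw [leadingCoeff_eq_zero] at h0
  rw [h0] at h
  simp at h

theorem irreducible_reverse {f : F[X]} (hf : Irreducible f) (h : f.coeff 0 ≠ 0) :
    Irreducible f.reverse := by
  constructor
  · intro hu
    have h1 := natDegree_eq_zero_of_isUnit hu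
    rw [natDegree_reverse_of h] at h1
    exact (Irreducible.natDegree_pos hf).ne' h1
  · intro a b hab
    have ha0 : a.coeff 0 ≠ 0 := by
      intro h0
      have := coeff_zero_reverse_ne h
      rw [hab, mul_coeff_zero, h0, zero_mul] at this
      exact this rfl
    have hb0 : b.coeff 0 ≠ 0 := by
      intro h0
      have := coeff_zero_reverse_ne h
      rw [hab, mul_coeff_zero, h0, mul_zero] at this
      exact this rfl
    have h1 : f = a.reverse * b.reverse := by
      rw [← reverse_mul_of_domain, ← hab, reverse_reverse_of h]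
    rcases hf.isUnit_or_isUnit h1 with h2 | h2
    · left
      have h3 := natDegree_eq_zero_of_isUnit h2
      rw [natDegree_reverse_of ha0] at h3
      rw [Polynomial.isUnit_iff_degree_eq_zero, degree_eq_natDegree (by rintro rfl; simp at ha0), h3]
      rfl
    · right
      have h3 := natDegree_eq_zero_of_isUnit h2
      rw [natDegree_reverse_of hb0] at h3
      rw [Polynomial.isUnit_iff_degree_eq_zero, degree_eq_natDegree (by rintro rfl; simp at hb0), h3]
      rfl

/-- The monic polynomial whose roots are the inverses of the roots of `f`. -/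
noncomputable def star (f : F[X]) : F[X] := C (f.coeff 0)⁻¹ * f.reverse

theorem star_associated {f : F[X]} (h : f.coeff 0 ≠ 0) : Associated (star f) f.reverse := by
  have hu : IsUnit (C (f.coeff 0)⁻¹) := Polynomial.isUnit_C.mpr (IsUnit.mk0 _ (inv_ne_zero h))
  exact associated_unit_mul_left _ _ hu

theorem star_monic {f : F[X]} (h : f.coeff 0 ≠ 0) : (star f).Monic := by
  rw [Monic, star, leadingCoeff_mul, leadingCoeff_C, reverse_leadingCoeff, trailingCoeff,
    natTrailingDegree_eq_zero_of h, inv_mul_cancel₀ h]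

theorem star_irreducible {f : F[X]} (hf : Irreducible f) (h : f.coeff 0 ≠ 0) :
    Irreducible (star f) :=
  (star_associated h).symm.irreducible (irreducible_reverse hf h)

theorem star_natDegree {f : F[X]} (h : f.coeff 0 ≠ 0) : (star f).natDegree = f.natDegree := by
  rw [← natDegree_reverse_of h]
  exact natDegree_eq_of_degree_eq (degree_eq_degree_of_associated (star_associated h))

theorem star_coeff_zero {f : F[X]} (h : f.coeff 0 ≠ 0) : (star f).coeff 0 ≠ 0 := by
  rw [star, mul_coeff_zero, coeff_C_zero]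
  exact mul_ne_zero (inv_ne_zero h) (coeff_zero_reverse_ne h)

theorem reverse_isUnit {u : F[X]} (hu : IsUnit u) : IsUnit u.reverse := by
  obtain ⟨c, hc, rfl⟩ := Polynomial.isUnit_iff.mp hu
  rw [reverse_C]
  exact Polynomial.isUnit_C.mpr hc

theorem reverse_associated {f g : F[X]} (h : Associated f g) : Associated f.reverse g.reverse := by
  obtain ⟨u, rfl⟩ := h
  rw [reverse_mul_of_domain]
  obtain ⟨v, hv⟩ := reverse_isUnit u.isUnit
  exact ⟨v, by rw [hv]⟩

theorem star_star {f : F[X]} (hm : f.Monic) (h : f.coeff 0 ≠ 0) : star (star f) = f := by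
  have h1 : Associated (star (star f)) f := by
    refine (star_associated (star_coeff_zero h)).trans ?_
    have h2 := reverse_associated (star_associated h)
    rwa [reverse_reverse_of h] at h2
  exact eq_of_monic_of_associated (star_monic (star_coeff_zero h)) hm h1

theorem star_pow_dvd {f χ : F[X]} (h0 : f.coeff 0 ≠ 0) (hχ : χ.reverse ∣ χ) {k : ℕ}
    (h : f ^ k ∣ χ) : star f ^ k ∣ χ := by
  have h1 := reverse_dvd h
  rw [reverse_pow'] at h1
  exact ((star_associated h0).pow_pow.dvd.trans h1).trans hχ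

variable [Fintype F]

/-- An irreducible polynomial of degree `d`, not `X`, divides `X ^ (q ^ d - 1) - 1`. -/
theorem dvd_X_pow_sub_one {f : F[X]} (hf : Irreducible f) (h : f.coeff 0 ≠ 0) :
    f ∣ X ^ (Fintype.card F ^ f.natDegree - 1) - 1 := by
  have h1 := (hf.natDegree_dvd_iff_dvd_X_pow_card_pow_sub_X (n := f.natDegree)).mp dvd_rfl
  rw [Nat.card_eq_fintype_card] at h1
  have hq : 0 < Fintype.card F ^ f.natDegree := pow_pos Fintype.card_pos _
  have h2 : (X : F[X]) ^ Fintype.card F ^ f.natDegree - X
      = X * (X ^ (Fintype.card F ^ f.natDegree - 1) - 1) := by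
    rw [mul_sub, mul_one, ← pow_succ', Nat.sub_add_cancel hq]
  rw [h2] at h1
  rcases hf.prime.dvd_or_dvd h1 with h3 | h3
  · exfalso
    have h4 : Associated f X := by
      have : Irreducible (X : F[X]) := Polynomial.irreducible_X
      exact hf.associated_of_dvd this h3
    obtain ⟨u, hu⟩ := h4.symm
    rw [← hu, mul_coeff_zero, coeff_X_zero, zero_mul] at h
    exact h rfl
  · exact h3

/-- An irreducible self-reciprocal polynomial with roots different from `1`, `-1` has even degree
`2 n` and divides `X ^ (q ^ n + 1) - 1`. -/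
theorem dvd_X_pow_add_one {f : F[X]} (hf : Irreducible f) (h : f.coeff 0 ≠ 0)
    (hs : Associated f.reverse f) (h2 : ¬ f ∣ X ^ 2 - 1) :
    ∃ n : ℕ, 0 < n ∧ f.natDegree = 2 * n ∧ f ∣ X ^ (Fintype.card F ^ n + 1) - 1 := by
  have : Fact (Irreducible f) := ⟨hf⟩
  have hf0 : f ≠ 0 := hf.ne_zero
  let K := AdjoinRoot f
  let α : K := AdjoinRoot.root f
  have hfin : Module.Finite F K := (AdjoinRoot.powerBasis hf0).finite
  have : Finite K := Module.finite_of_finite F
  have hrank : Module.finrank F K = f.natDegree := by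
    rw [(AdjoinRoot.powerBasis hf0).finrank, AdjoinRoot.powerBasis_dim]
  have hαf : aeval α f = 0 := by
    have := AdjoinRoot.eval₂_root f
    rwa [Polynomial.aeval_def]
  have hdvd : ∀ g : F[X], aeval α g = 0 → f ∣ g := by
    intro g hg
    have h3 : AdjoinRoot.mk f g = 0 := by
      rw [← AdjoinRoot.aeval_eq]; exact hg
    exact AdjoinRoot.mk_eq_zero.mp h3
  have hα0 : α ≠ 0 := by
    intro h0
    have h3 : f ∣ X := hdvd X (by rw [aeval_X]; exact h0)
    obtain ⟨u, hu⟩ := (hf.associated_of_dvd Polynomial.irreducible_X h3).symm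
    rw [← hu, mul_coeff_zero, coeff_X_zero, zero_mul] at h
    exact h rfl
  have hinv : aeval α⁻¹ f = 0 := by
    have := invertibleOfNonzero hα0
    have h4 := (eval₂_reverse_eq_zero_iff (algebraMap F K) α f).mpr (by
      rw [← Polynomial.aeval_def]; exact hαf)
    rw [invOf_eq_inv] at h4
    obtain ⟨c, hc⟩ := hs.dvd
    have h5 : aeval α⁻¹ (f.reverse * c) = 0 := by
      rw [map_mul, Polynomial.aeval_def, h4, zero_mul]
    have h6 : (aeval α⁻¹ f : K) = aeval α⁻¹ (f.reverse * c) := congrArg (aeval α⁻¹) hc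
    rw [h6, h5]
  let σ : K →ₐ[F] K := AdjoinRoot.liftAlgHom f (Algebra.ofId F K) α⁻¹ (by
    exact hinv)
  have hσ : σ α = α⁻¹ := AdjoinRoot.liftAlgHom_root ..
  obtain ⟨⟨j, hj⟩, hjσ⟩ := (FiniteField.bijective_frobeniusAlgHom_pow F K).2 σ
  rw [hrank] at hj
  have hjα : α ^ (Fintype.card F ^ j) = α⁻¹ := by
    rw [← hσ, ← hjσ, AlgHom.coe_pow, FiniteField.coe_frobeniusAlgHom, pow_iterate]
  have hjα2 : α ^ (Fintype.card F ^ j + 1) = 1 := by
    rw [pow_succ, hjα, inv_mul_cancel₀ hα0]
  have h5 : α ^ (Fintype.card F ^ (2 * j)) = α := by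
    rw [two_mul, pow_add, pow_mul, hjα, inv_pow, hjα, inv_inv]
  have h6 : f.natDegree ∣ 2 * j := by
    apply hf.natDegree_dvd_of_dvd_X_pow_card_pow_sub_X
    apply hdvd
    rw [Nat.card_eq_fintype_card]
    simp [h5]
  have hj0 : 0 < j := by
    rcases Nat.eq_zero_or_pos j with h0 | h0
    · exfalso
      apply h2
      apply hdvd
      subst h0
      simp only [pow_zero] at hjα2
      rw [map_sub, map_pow, aeval_X, map_one]
      rw [show (1 : ℕ) + 1 = 2 from rfl] at hjα2
      rw [hjα2, sub_self]
    · exact h0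
  have h7 : f.natDegree = 2 * j := by
    obtain ⟨c, hc⟩ := h6
    have hd := hf.natDegree_pos
    have : c = 1 := by
      have hc0 : c ≠ 0 := by rintro rfl; omega
      by_contra hc1
      have hc2 : 2 ≤ c := by omega
      have : f.natDegree * 2 ≤ f.natDegree * c := Nat.mul_le_mul_left _ hc2
      omega
    rw [this, mul_one] at hc
    exact hc.symm
  refine ⟨j, hj0, h7, ?_⟩
  apply hdvd
  rw [map_sub, map_pow, aeval_X, map_one, hjα2, sub_self]

end Cfsg.Agent.H104
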