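import Mathlib
import Cfsg.Agent.H104.SelfDualPoly
set_option linter.all false

-- part: H104/LcmBound
section
/-!
# A bound for the least common multiple of numbers `q^n + 1`
-/

set_option autoImplicit false

namespace Cfsg.Agent.H104

open Finset

theorem prod_one_add_le (x : ℝ) (hx0 : 0 ≤ x) (hx1 : x < 1) (K : ℕ) :
    ∀ A : Finset ℕ, A ⊆ range K → (1 - x) * ∏ a ∈ A, (1 + x ^ (2 ^ a)) ≤ 1 - x ^ (2 ^ K) := by
  induction K with
  | zero =>
    intro A hA
    have : A = ∅ := by simpa using hA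
    subst this
    simp
  | succ K ih =>
    intro A hA
    have hxK0 : 0 ≤ x ^ (2 ^ K) := pow_nonneg hx0 _
    have hxK1 : x ^ (2 ^ K) ≤ 1 := pow_le_one₀ hx0 hx1.le
    have e : x ^ (2 ^ (K + 1)) = x ^ (2 ^ K) * x ^ (2 ^ K) := by
      rw [← pow_add]; congr 1; ring
    by_cases hK : K ∈ A
    · have hA' : A.erase K ⊆ range K := by
        intro a ha
        have h1 := mem_range.mp (hA (mem_of_mem_erase ha))
        have h2 := ne_of_mem_erase ha
        exact mem_range.mpr (by omega)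
      have h := ih _ hA'
      rw [← mul_prod_erase _ _ hK]
      have h3 : (1 - x) * ((1 + x ^ 2 ^ K) * ∏ a ∈ A.erase K, (1 + x ^ 2 ^ a))
          = (1 + x ^ 2 ^ K) * ((1 - x) * ∏ a ∈ A.erase K, (1 + x ^ 2 ^ a)) := by ring
      rw [h3, e]
      calc (1 + x ^ 2 ^ K) * ((1 - x) * ∏ a ∈ A.erase K, (1 + x ^ 2 ^ a))
          ≤ (1 + x ^ 2 ^ K) * (1 - x ^ (2 ^ K)) := by
            apply mul_le_mul_of_nonneg_left h; linarith
        _ = 1 - x ^ 2 ^ K * x ^ 2 ^ K := by ring
    · have hA' : A ⊆ range K := by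
        intro a ha
        have h1 := mem_range.mp (hA ha)
        have h2 : a ≠ K := fun h => hK (h ▸ ha)
        exact mem_range.mpr (by omega)
      refine (ih _ hA').trans ?_
      rw [e]
      nlinarith

theorem prod_one_add_le' (x : ℝ) (hx0 : 0 ≤ x) (hx1 : x < 1) (A : Finset ℕ) :
    (1 - x) * ∏ a ∈ A, (1 + x ^ (2 ^ a)) ≤ 1 := by
  have h := prod_one_add_le x hx0 hx1 (A.sup id + 1) A (by
    intro a ha
    exact mem_range.mpr (Nat.lt_succ_of_le (le_sup (f := id) ha)))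
  have : 0 ≤ x ^ (2 ^ (A.sup id + 1)) := pow_nonneg hx0 _
  linarith

theorem two_pow_padic_add_one_dvd (q n : ℕ) (hn : 0 < n) :
    q ^ (2 ^ padicValNat 2 n) + 1 ∣ q ^ n + 1 := by
  have h0 : 2 ^ padicValNat 2 n ∣ n := pow_padicValNat_dvd
  have h1 : ¬ 2 ^ (padicValNat 2 n + 1) ∣ n := pow_succ_padicValNat_not_dvd hn.ne'
  generalize padicValNat 2 n = v at h0 h1
  obtain ⟨m, rfl⟩ := h0
  have hmo : Odd m := by
    by_contra hcon
    rw [Nat.not_odd_iff_even] at hcon
    obtain ⟨k, hk⟩ := hcon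
    exact h1 ⟨k, by rw [hk]; ring⟩
  have h := Odd.nat_add_dvd_pow_add_pow (q ^ 2 ^ v) 1 hmo
  rw [one_pow, ← pow_mul] at h
  exact h

theorem lcm_le_real (q : ℕ) (hq : 2 ≤ q) (T : Finset ℕ) (hT : ∀ n ∈ T, 0 < n) :
    ((T.lcm fun n => q ^ n + 1 : ℕ) : ℝ) ≤ (q : ℝ) ^ (∑ n ∈ T, n) *
      ∏ a ∈ T.image (padicValNat 2), (1 + ((q : ℝ)⁻¹) ^ (2 ^ a)) := by
  have hq0 : (0 : ℝ) < q := by positivity
  have hqi0 : (0 : ℝ) < (q : ℝ)⁻¹ := by positivity
  have hqi1 : (q : ℝ)⁻¹ ≤ 1 := inv_le_one_of_one_le₀ (by exact_mod_cast (by omega : 1 ≤ q))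
  induction T using Finset.induction_on with
  | empty => simp
  | insert n T hnT ih =>
    have hn : 0 < n := hT n (mem_insert_self _ _)
    have ih' := ih (fun k hk => hT k (mem_insert_of_mem hk))
    have hlcm : (insert n T).lcm (fun n => q ^ n + 1) =
        Nat.lcm (q ^ n + 1) (T.lcm fun n => q ^ n + 1) := by
      rw [Finset.lcm_insert]; rfl
    rw [hlcm, sum_insert hnT]
    set L := T.lcm fun n => q ^ n + 1 with hL
    have hprodpos : 0 ≤ ∏ a ∈ T.image (padicValNat 2), (1 + ((q : ℝ)⁻¹) ^ (2 ^ a)) :=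
      prod_nonneg fun a _ => by positivity
    by_cases hv : padicValNat 2 n ∈ T.image (padicValNat 2)
    · obtain ⟨n', hn'T, hn'⟩ := mem_image.mp hv
      have hd1 : q ^ (2 ^ padicValNat 2 n) + 1 ∣ q ^ n + 1 := two_pow_padic_add_one_dvd q n hn
      have hd2 : q ^ (2 ^ padicValNat 2 n) + 1 ∣ L := by
        have h1 := two_pow_padic_add_one_dvd q n' (hT n' (mem_insert_of_mem hn'T))
        rw [hn'] at h1
        exact h1.trans (Finset.dvd_lcm hn'T)
      have hle : Nat.lcm (q ^ n + 1) L ≤ q ^ n * L := by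
        have hg : q ^ (2 ^ padicValNat 2 n) + 1 ≤ Nat.gcd (q ^ n + 1) L :=
          Nat.le_of_dvd (Nat.gcd_pos_of_pos_left _ (by positivity)) (Nat.dvd_gcd hd1 hd2)
        have hmul := Nat.gcd_mul_lcm (q ^ n + 1) L
        have h2 : 2 ≤ Nat.gcd (q ^ n + 1) L := by
          have : 1 ≤ q ^ (2 ^ padicValNat 2 n) := Nat.one_le_pow _ _ (by omega)
          omega
        have h3 : 2 * Nat.lcm (q ^ n + 1) L ≤ (q ^ n + 1) * L := by
          rw [← hmul]; exact Nat.mul_le_mul_right _ h2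
        have h4 : q ^ n + 1 ≤ 2 * q ^ n := by
          have : 1 ≤ q ^ n := Nat.one_le_pow _ _ (by omega)
          omega
        have h5 : (q ^ n + 1) * L ≤ 2 * q ^ n * L := Nat.mul_le_mul_right _ h4
        have h6 : 2 * Nat.lcm (q ^ n + 1) L ≤ 2 * (q ^ n * L) := by
          calc _ ≤ _ := h3
            _ ≤ _ := h5
            _ = _ := by ring
        omega
      have himg : (insert n T).image (padicValNat 2) = T.image (padicValNat 2) := by
        rw [image_insert, insert_eq_of_mem hv]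
      rw [himg]
      calc ((Nat.lcm (q ^ n + 1) L : ℕ) : ℝ) ≤ ((q ^ n * L : ℕ) : ℝ) := by exact_mod_cast hle
        _ = (q : ℝ) ^ n * (L : ℝ) := by push_cast; ring
        _ ≤ (q : ℝ) ^ n * ((q : ℝ) ^ (∑ n ∈ T, n) *
            ∏ a ∈ T.image (padicValNat 2), (1 + ((q : ℝ)⁻¹) ^ (2 ^ a))) :=
            mul_le_mul_of_nonneg_left ih' (by positivity)
        _ = _ := by rw [pow_add]; ring
    · have hle : Nat.lcm (q ^ n + 1) L ≤ (q ^ n + 1) * L := by
        apply Nat.le_of_dvd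
        · apply Nat.mul_pos (by positivity)
          rcases Nat.eq_zero_or_pos L with h0 | h0
          · exfalso
            rw [hL, Finset.lcm_eq_zero_iff] at h0
            obtain ⟨k, _, hk⟩ := h0
            have : 0 < q ^ k + 1 := by positivity
            omega
          · exact h0
        · exact Nat.lcm_dvd_mul _ _
      rw [image_insert, prod_insert hv]
      have hpow : (2 : ℕ) ^ padicValNat 2 n ≤ n := Nat.le_of_dvd hn pow_padicValNat_dvd
      have h1 : ((q : ℝ)⁻¹) ^ n ≤ ((q : ℝ)⁻¹) ^ (2 ^ padicValNat 2 n) :=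
        pow_le_pow_of_le_one hqi0.le hqi1 hpow
      have h2 : ((q : ℝ) ^ n + 1) = (q : ℝ) ^ n * (1 + ((q : ℝ)⁻¹) ^ n) := by
        rw [mul_add, mul_one, ← mul_pow, mul_inv_cancel₀ hq0.ne', one_pow]
      calc ((Nat.lcm (q ^ n + 1) L : ℕ) : ℝ) ≤ (((q ^ n + 1) * L : ℕ) : ℝ) := by exact_mod_cast hle
        _ = ((q : ℝ) ^ n + 1) * (L : ℝ) := by push_cast; ring
        _ = ((q : ℝ) ^ n * (1 + ((q : ℝ)⁻¹) ^ n)) * (L : ℝ) := by rw [h2]
        _ ≤ ((q : ℝ) ^ n * (1 + ((q : ℝ)⁻¹) ^ (2 ^ padicValNat 2 n))) * ((q : ℝ) ^ (∑ n ∈ T, n) *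
            ∏ a ∈ T.image (padicValNat 2), (1 + ((q : ℝ)⁻¹) ^ (2 ^ a))) := by
            apply mul_le_mul _ ih' (by positivity) (by positivity)
            apply mul_le_mul_of_nonneg_left _ (by positivity)
            linarith
        _ = _ := by rw [pow_add]; ring

/-- `(q - 1) lcm (q ^ n + 1 : n ∈ T) ≤ q ^ (1 + ∑ T)`. -/
theorem lcm_le (q : ℕ) (hq : 2 ≤ q) (T : Finset ℕ) (hT : ∀ n ∈ T, 0 < n) :
    (q - 1) * (T.lcm fun n => q ^ n + 1) ≤ q ^ (1 + ∑ n ∈ T, n) := by
  have hq0 : (0 : ℝ) < q := by positivity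
  have hqi0 : (0 : ℝ) < (q : ℝ)⁻¹ := by positivity
  have hq1 : (1 : ℝ) < q := by exact_mod_cast (by omega : 1 < q)
  have hqi1 : (q : ℝ)⁻¹ < 1 := inv_lt_one_of_one_lt₀ hq1
  have h1 := lcm_le_real q hq T hT
  have h2 := prod_one_add_le' (q : ℝ)⁻¹ hqi0.le hqi1 (T.image (padicValNat 2))
  have h3 : (((q - 1 : ℕ) : ℝ)) = (q : ℝ) * (1 - (q : ℝ)⁻¹) := by
    rw [Nat.cast_sub (by omega)]
    field_simp
    simp
  have h4 : (((q - 1) * (T.lcm fun n => q ^ n + 1) : ℕ) : ℝ) ≤ ((q ^ (1 + ∑ n ∈ T, n) : ℕ) : ℝ) := by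
    push_cast [h3]
    calc (q : ℝ) * (1 - (q : ℝ)⁻¹) * ((T.lcm fun n => q ^ n + 1 : ℕ) : ℝ)
        ≤ (q : ℝ) * (1 - (q : ℝ)⁻¹) * ((q : ℝ) ^ (∑ n ∈ T, n) *
      ∏ a ∈ T.image (padicValNat 2), (1 + ((q : ℝ)⁻¹) ^ (2 ^ a))) := by
          apply mul_le_mul_of_nonneg_left h1
          apply mul_nonneg hq0.le
          linarith
      _ = (q : ℝ) ^ (1 + ∑ n ∈ T, n) * ((1 - (q : ℝ)⁻¹) *
          ∏ a ∈ T.image (padicValNat 2), (1 + ((q : ℝ)⁻¹) ^ (2 ^ a))) := by
          rw [pow_add, pow_one]; ring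
      _ ≤ (q : ℝ) ^ (1 + ∑ n ∈ T, n) * 1 := mul_le_mul_of_nonneg_left h2 (by positivity)
      _ = _ := by rw [mul_one]
  exact_mod_cast h4

end Cfsg.Agent.H104
end

-- part: H104/OrbitSum
section
/-!
# Sums over a finite set with an involution
-/

set_option autoImplicit false

namespace Cfsg.Agent.H104

open Finset

variable {α : Type*} [DecidableEq α]

omit [DecidableEq α] in
theorem sum_image_le_sum (S : Finset α) (φ : α → ℕ) (g : ℕ → ℕ) (d : α → ℕ)
    (h : ∀ n ∈ S.image φ, g n ≤ ∑ f ∈ S with φ f = n, d f) :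
    ∑ n ∈ S.image φ, g n ≤ ∑ f ∈ S, d f := by
  calc ∑ n ∈ S.image φ, g n ≤ ∑ n ∈ S.image φ, ∑ f ∈ S with φ f = n, d f := sum_le_sum h
    _ = ∑ f ∈ S, d f := sum_fiberwise_of_maps_to (fun f hf => mem_image_of_mem φ hf) _

/-- the types of the orbits -/
theorem types_le (S : Finset α) (d : α → ℕ) (st : α → α)
    (hst : ∀ f ∈ S, st f ∈ S) (hdst : ∀ f ∈ S, d (st f) = d f)
    (hstst : ∀ f ∈ S, st (st f) = f)
    (heven : ∀ f ∈ S, st f = f → d f = 2 * (d f / 2)) :
    2 * ∑ n ∈ (S.filter (fun f => st f = f)).image (fun f => d f / 2), n +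
      2 * ∑ n ∈ (S.filter (fun f => st f ≠ f)).image d, n ≤ ∑ f ∈ S, d f := by
  rw [← sum_filter_add_sum_filter_not S (fun f => st f = f) d]
  apply Nat.add_le_add
  · rw [mul_sum]
    apply sum_image_le_sum (S.filter (fun f => st f = f)) (fun f => d f / 2) (fun n => 2 * n) d
    intro n hn
    obtain ⟨f, hf, rfl⟩ := mem_image.mp hn
    have hf' := mem_filter.mp hf
    have h5 : f ∈ (S.filter (fun f => st f = f)).filter (fun g => d g / 2 = d f / 2) :=
      mem_filter.mpr ⟨hf, rfl⟩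
    have h6 := single_le_sum (f := d) (fun _ _ => Nat.zero_le _) h5
    have h7 := heven f hf'.1 hf'.2
    show 2 * (d f / 2) ≤ _
    rw [← h7]
    exact h6
  · rw [mul_sum]
    apply sum_image_le_sum (S.filter (fun f => st f ≠ f)) d (fun n => 2 * n) d
    intro n hn
    obtain ⟨f, hf, rfl⟩ := mem_image.mp hn
    have hf' := mem_filter.mp hf
    have hne : f ≠ st f := fun h => hf'.2 h.symm
    have hsub : ({f, st f} : Finset α) ⊆
        (S.filter (fun f => ¬ st f = f)).filter (fun g => d g = d f) := by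
      intro x hx
      rw [mem_insert, mem_singleton] at hx
      rcases hx with rfl | rfl
      · exact mem_filter.mpr ⟨hf, rfl⟩
      · refine mem_filter.mpr ⟨mem_filter.mpr ⟨hst f hf'.1, ?_⟩, hdst f hf'.1⟩
        rw [hstst f hf'.1]
        exact hne
    calc 2 * d f = ∑ x ∈ ({f, st f} : Finset α), d x := by
          rw [sum_pair hne, hdst f hf'.1]; ring
      _ ≤ _ := sum_le_sum_of_subset hsub

/-- contribution of an orbit of large multiplicity -/
theorem mult_le (S S' : Finset α) (hS : S' ⊆ S) (d μ : α → ℕ) (st : α → α)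
    (hμ : ∀ f ∈ S, 1 ≤ μ f) (hd : ∀ f ∈ S, 1 ≤ d f)
    (hst : ∀ f ∈ S', st f ∈ S') (hdst : ∀ f ∈ S', d (st f) = d f) (hμst : ∀ f ∈ S', μ (st f) = μ f)
    (heven : ∀ f ∈ S', st f = f → 2 ≤ d f) (f₀ : α) (hf₀ : f₀ ∈ S') :
    ∑ f ∈ S', d f + 2 * (μ f₀ - 1) ≤ ∑ f ∈ S, μ f * d f := by
  have h1 : ∑ f ∈ S, μ f * d f ≥ ∑ f ∈ S', μ f * d f := sum_le_sum_of_subset hS
  have h2 : ∑ f ∈ S', μ f * d f = ∑ f ∈ S', d f + ∑ f ∈ S', (μ f - 1) * d f := by
    rw [← sum_add_distrib]
    apply sum_congr rfl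
    intro f hf
    have := hμ f (hS hf)
    obtain ⟨k, hk⟩ := Nat.exists_eq_add_of_le this
    rw [hk, Nat.add_sub_cancel_left]; ring
  have h3 : 2 * (μ f₀ - 1) ≤ ∑ f ∈ S', (μ f - 1) * d f := by
    by_cases hs : st f₀ = f₀
    · calc 2 * (μ f₀ - 1) = (μ f₀ - 1) * 2 := by ring
        _ ≤ (μ f₀ - 1) * d f₀ := Nat.mul_le_mul_left _ (heven f₀ hf₀ hs)
        _ ≤ _ := single_le_sum (f := fun f => (μ f - 1) * d f) (fun _ _ => Nat.zero_le _) hf₀
    · have hne : f₀ ≠ st f₀ := fun h => hs h.symm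
      have hsub : ({f₀, st f₀} : Finset α) ⊆ S' := by
        intro x hx
        rw [mem_insert, mem_singleton] at hx
        rcases hx with rfl | rfl
        · exact hf₀
        · exact hst f₀ hf₀
      have h4 := hd f₀ (hS hf₀)
      calc 2 * (μ f₀ - 1) ≤ 2 * ((μ f₀ - 1) * d f₀) := by
            apply Nat.mul_le_mul_left; exact Nat.le_mul_of_pos_right _ h4
        _ = ∑ f ∈ ({f₀, st f₀} : Finset α), (μ f - 1) * d f := by
            rw [sum_pair hne, hdst f₀ hf₀, hμst f₀ hf₀]; ring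
        _ ≤ _ := sum_le_sum_of_subset hsub
  omega

theorem mult_le' (S S' : Finset α) (hS : S' ⊆ S) (d μ : α → ℕ)
    (hμ : ∀ f ∈ S, 1 ≤ μ f) (hd : ∀ f ∈ S, 1 ≤ d f) (f₀ : α) (hf₀ : f₀ ∈ S) (hf₀' : f₀ ∉ S') :
    ∑ f ∈ S', d f + μ f₀ ≤ ∑ f ∈ S, μ f * d f := by
  have h1 : insert f₀ S' ⊆ S := insert_subset hf₀ hS
  calc ∑ f ∈ S', d f + μ f₀ ≤ ∑ f ∈ S', μ f * d f + μ f₀ * d f₀ := by
        apply Nat.add_le_add
        · apply sum_le_sum
          intro f hf
          exact Nat.le_mul_of_pos_left _ (hμ f (hS hf))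
        · exact Nat.le_mul_of_pos_right _ (hd f₀ hf₀)
    _ = ∑ f ∈ insert f₀ S', μ f * d f := by rw [sum_insert hf₀']; ring
    _ ≤ _ := sum_le_sum_of_subset h1

end Cfsg.Agent.H104
end

-- part: H104/SelfDual
section
/-!
# Orders of elements with self-reciprocal characteristic polynomial
-/

set_option autoImplicit false

namespace Cfsg.Agent.H104

open Polynomial UniqueFactorizationMonoid Finset

theorem lcm_prod_le (q : ℕ) (hq : 2 ≤ q) (T U : Finset ℕ) (hT : ∀ n ∈ T, 0 < n) :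
    (q - 1) * ((T.lcm fun n => q ^ n + 1) * ∏ n ∈ U, (q ^ n - 1)) ≤
      q ^ (1 + (∑ n ∈ T, n + ∑ n ∈ U, n)) := by
  have h1 := lcm_le q hq T hT
  have h2 : ∏ n ∈ U, (q ^ n - 1) ≤ q ^ (∑ n ∈ U, n) := by
    rw [← prod_pow_eq_pow_sum]
    exact prod_le_prod' fun n _ => Nat.sub_le _ _
  calc _ = ((q - 1) * (T.lcm fun n => q ^ n + 1)) * ∏ n ∈ U, (q ^ n - 1) := by ring
    _ ≤ q ^ (1 + ∑ n ∈ T, n) * q ^ (∑ n ∈ U, n) := Nat.mul_le_mul h1 h2
    _ = _ := by rw [← pow_add]; ring_nf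

variable {F : Type*} [Field F]

theorem mem_factors_iff [DecidableEq F] {χ f : F[X]} (hχ : χ ≠ 0) :
    f ∈ normalizedFactors χ ↔ Irreducible f ∧ f.Monic ∧ f ∣ χ := by
  rw [Polynomial.mem_normalizedFactors_iff hχ]

theorem pow_dvd_iff_le_count [DecidableEq F] {χ f : F[X]} (hχ : χ ≠ 0) (hf : Irreducible f)
    (hm : f.Monic) (k : ℕ) : f ^ k ∣ χ ↔ k ≤ (normalizedFactors χ).count f := by
  have h1 := emultiplicity_eq_count_normalizedFactors hf hχ
  rw [hm.normalize_eq_self] at h1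
  rw [pow_dvd_iff_le_emultiplicity, h1]
  exact Nat.cast_le

theorem dvd_X_pow_sub_one_of_dvd {f : F[X]} {a b : ℕ} (h : f ∣ X ^ a - 1) (hab : a ∣ b) :
    f ∣ X ^ b - 1 := by
  obtain ⟨c, rfl⟩ := hab
  refine h.trans ?_
  have := sub_dvd_pow_sub_pow (X ^ a : F[X]) 1 c
  rwa [← pow_mul, one_pow] at this

theorem prod_factors [DecidableEq F] {χ : F[X]} (hm : χ.Monic) :
    ∏ f ∈ (normalizedFactors χ).toFinset, f ^ (normalizedFactors χ).count f = χ := by
  have h := leadingCoeff_mul_prod_normalizedFactors χ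
  rw [hm.leadingCoeff, C_1, one_mul] at h
  rw [← Finset.prod_multiset_count]
  exact h

theorem factor_spec [DecidableEq F] {χ : F[X]} (hm : χ.Monic) {f : F[X]}
    (hf : f ∈ (normalizedFactors χ).toFinset) : Irreducible f ∧ f.Monic ∧ f ∣ χ :=
  (mem_factors_iff hm.ne_zero).mp (Multiset.mem_toFinset.mp hf)

theorem natDegree_factors [DecidableEq F] {χ : F[X]} (hm : χ.Monic) :
    ∑ f ∈ (normalizedFactors χ).toFinset, (normalizedFactors χ).count f * f.natDegree
      = χ.natDegree := by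
  conv_rhs => rw [← prod_factors hm]
  rw [natDegree_prod_of_monic]
  · apply sum_congr rfl
    intro f hf
    rw [(factor_spec hm hf).2.1.natDegree_pow]
  · intro f hf
    exact (factor_spec hm hf).2.1.pow _

/-- If all irreducible factors of `χ` divide `X ^ L - 1` and have multiplicity at most `p ^ k`
then `χ` divides `X ^ (L * p ^ k) - 1`. -/
theorem dvd_of_factors [DecidableEq F] (p : ℕ) [Fact p.Prime] [CharP F p] {χ : F[X]}
    (hm : χ.Monic) (L k : ℕ) (hL : ∀ f ∈ (normalizedFactors χ).toFinset, f ∣ X ^ L - 1)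
    (hk : ∀ f ∈ (normalizedFactors χ).toFinset, (normalizedFactors χ).count f ≤ p ^ k) :
    χ ∣ X ^ (L * p ^ k) - 1 := by
  have h1 : (X : F[X]) ^ (L * p ^ k) - 1 = (X ^ L - 1) ^ (p ^ k) := by
    rw [sub_pow_char_pow, one_pow, ← pow_mul]
  rw [h1]
  nth_rewrite 1 [← prod_factors hm]
  apply Finset.prod_dvd_of_coprime
  · intro f hf g hg hfg
    have hf' := factor_spec hm hf
    have hg' := factor_spec hm hg
    apply IsCoprime.pow
    rw [hf'.1.coprime_iff_not_dvd]
    intro hdvd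
    exact hfg (eq_of_monic_of_associated hf'.2.1 hg'.2.1 (hf'.1.associated_of_dvd hg'.1 hdvd))
  · intro f hf
    exact (pow_dvd_pow_of_dvd (hL f hf) _).trans (pow_dvd_pow _ (hk f hf))

theorem le_pow_pred (p : ℕ) (hp : 2 ≤ p) (b : ℕ) (hb : 1 ≤ b) : b ≤ p ^ (b - 1) := by
  obtain ⟨c, rfl⟩ := Nat.exists_eq_add_of_le hb
  rw [Nat.add_sub_cancel_left]
  calc 1 + c ≤ 2 ^ c := by rw [add_comm]; exact Nat.lt_two_pow_self
    _ ≤ p ^ c := Nat.pow_le_pow_left hp c

theorem two_mul_add_one_le (p : ℕ) (hp : 3 ≤ p) (j : ℕ) : 2 * j + 1 ≤ p ^ j := by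
  induction j with
  | zero => simp
  | succ j ih =>
    rw [pow_succ]
    nlinarith

theorem two_mul_le (p : ℕ) (hp : 2 ≤ p) (j : ℕ) (hj : 1 ≤ j) : 2 * j ≤ p ^ j := by
  induction j, hj using Nat.le_induction with
  | base => simpa using hp
  | succ j hj ih =>
    rw [pow_succ]
    nlinarith

theorem reverse_X_sq_sub_one : ((X : F[X]) ^ 2 - 1).reverse = - (X ^ 2 - 1) := by
  have h1 : (X : F[X]) ^ 2 - 1 = X * X + C (-1) := by rw [C_neg, C_1]; ring
  rw [h1, reverse_add_C, reverse_X_mul]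
  have h2 : (X : F[X]).reverse = 1 := by
    have := reverse_X_mul (R := F) 1
    rw [mul_one] at this
    rw [this]
    simpa using reverse_C (1 : F)
  rw [h2, C_neg, C_1, natDegree_mul X_ne_zero X_ne_zero, natDegree_X]
  ring

variable [Fintype F]

theorem exists_exponent (p : ℕ) [Fact p.Prime] [CharP F p] {χ : F[X]}
    (hm : χ.Monic) (h0 : χ.coeff 0 ≠ 0) (hrev : χ.reverse ∣ χ) (m : ℕ)
    (hdeg : χ.natDegree = 2 * m ∨ (χ.natDegree = 2 * m + 1 ∧ p ≠ 2))
    (hne : p ≠ 2 → ∃ f : F[X], Irreducible f ∧ f.Monic ∧ f ∣ χ ∧ ¬ f ∣ X ^ 2 - 1) :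
    ∃ k : ℕ, 0 < k ∧ (Fintype.card F - 1) * k ≤ Fintype.card F ^ (m + 1) ∧ χ ∣ X ^ k - 1 := by
  classical
  have hχ : χ ≠ 0 := hm.ne_zero
  have hp : p.Prime := Fact.out
  set q := Fintype.card F with hqdef
  have hq2 : 2 ≤ q := Fintype.one_lt_card
  have hpq : p ≤ q := by
    obtain ⟨n, hn, hcard⟩ := FiniteField.card F p
    rw [hqdef, hcard]
    exact Nat.le_self_pow n.pos.ne' p
  set S := (normalizedFactors χ).toFinset with hS
  set μ : F[X] → ℕ := fun f => (normalizedFactors χ).count f with hμ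
  set S' := S.filter (fun f => ¬ f ∣ X ^ 2 - 1) with hS'
  have hspec : ∀ f ∈ S, Irreducible f ∧ f.Monic ∧ f ∣ χ := fun f hf => factor_spec hm hf
  have hcoeff : ∀ f ∈ S, f.coeff 0 ≠ 0 := by
    intro f hf hf0
    obtain ⟨g, hg⟩ := (hspec f hf).2.2
    apply h0
    rw [hg, mul_coeff_zero, hf0, zero_mul]
  have hmemS : ∀ f : F[X], Irreducible f → f.Monic → f ∣ χ → f ∈ S := by
    intro f h1 h2 h3
    exact Multiset.mem_toFinset.mpr ((mem_factors_iff hχ).mpr ⟨h1, h2, h3⟩)
  have hstS : ∀ f ∈ S, star f ∈ S := by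
    intro f hf
    have h1 := hspec f hf
    have h2 := hcoeff f hf
    refine hmemS _ (star_irreducible h1.1 h2) (star_monic h2) ?_
    have := star_pow_dvd (k := 1) h2 hrev (by simpa using h1.2.2)
    simpa using this
  have hstst : ∀ f ∈ S, star (star f) = f := fun f hf =>
    star_star (hspec f hf).2.1 (hcoeff f hf)
  have hμst : ∀ f ∈ S, μ (star f) = μ f := by
    have hle : ∀ f ∈ S, μ f ≤ μ (star f) := by
      intro f hf
      have h1 := hspec f hf
      have h2 := hcoeff f hf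
      rw [hμ]
      rw [← pow_dvd_iff_le_count hχ (star_irreducible h1.1 h2) (star_monic h2)]
      apply star_pow_dvd h2 hrev
      rw [pow_dvd_iff_le_count hχ h1.1 h1.2.1]
    intro f hf
    apply le_antisymm _ (hle f hf)
    have := hle _ (hstS f hf)
    rwa [hstst f hf] at this
  have hdst : ∀ f ∈ S, (star f).natDegree = f.natDegree := fun f hf => star_natDegree (hcoeff f hf)
  have hdvdst : ∀ f ∈ S, (star f ∣ X ^ 2 - 1 → f ∣ X ^ 2 - 1) := by
    intro f hf h1
    have h2 : ((X : F[X]) ^ 2 - 1).reverse ∣ X ^ 2 - 1 := by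
      have h3 : ((X : F[X]) ^ 2 - 1).reverse = - (X ^ 2 - 1) := reverse_X_sq_sub_one
      rw [h3]
      exact neg_dvd.mpr dvd_rfl
    have h3 := star_pow_dvd (k := 1) (star_coeff_zero (hcoeff f hf)) h2 (by simpa using h1)
    rw [hstst f hf] at h3
    simpa using h3
  have hS'S : S' ⊆ S := filter_subset _ _
  have hstS' : ∀ f ∈ S', star f ∈ S' := by
    intro f hf
    have hf' := mem_filter.mp hf
    exact mem_filter.mpr ⟨hstS f hf'.1, fun h => hf'.2 (hdvdst f hf'.1 h)⟩
  have hμ1 : ∀ f ∈ S, 1 ≤ μ f := by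
    intro f hf
    exact Multiset.one_le_count_iff_mem.mpr (Multiset.mem_toFinset.mp hf)
  have hd1 : ∀ f ∈ S, 1 ≤ f.natDegree := fun f hf => (hspec f hf).1.natDegree_pos
  have hself : ∀ f ∈ S', star f = f →
      ∃ n : ℕ, 0 < n ∧ f.natDegree = 2 * n ∧ f ∣ X ^ (q ^ n + 1) - 1 := by
    intro f hf hsf
    have hf' := mem_filter.mp hf
    apply dvd_X_pow_add_one (hspec f hf'.1).1 (hcoeff f hf'.1) _ hf'.2
    have := star_associated (hcoeff f hf'.1)
    rw [hsf] at this
    exact this.symm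
  set T := (S'.filter (fun f => star f = f)).image (fun f => f.natDegree / 2) with hT
  set U := (S'.filter (fun f => star f ≠ f)).image natDegree with hU
  set L := (T.lcm fun n => q ^ n + 1) * ∏ n ∈ U, (q ^ n - 1) with hL
  have hTU : 2 * ∑ n ∈ T, n + 2 * ∑ n ∈ U, n ≤ ∑ f ∈ S', f.natDegree := by
    apply types_le S' natDegree star hstS' (fun f hf => hdst f (hS'S hf))
      (fun f hf => hstst f (hS'S hf))
    intro f hf hsf
    obtain ⟨n, _, hn, _⟩ := hself f hf hsf
    rw [hn]; omega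
  have hTpos : ∀ n ∈ T, 0 < n := by
    intro n hn
    obtain ⟨f, hf, rfl⟩ := mem_image.mp hn
    have hf' := mem_filter.mp hf
    obtain ⟨n, hn0, hn, _⟩ := hself f hf'.1 hf'.2
    rw [hn]; omega
  have hUpos : ∀ n ∈ U, 0 < n := by
    intro n hn
    obtain ⟨f, hf, rfl⟩ := mem_image.mp hn
    have hf' := mem_filter.mp hf
    exact hd1 f (hS'S hf'.1)
  have hLle : (q - 1) * L ≤ q ^ (1 + (∑ n ∈ T, n + ∑ n ∈ U, n)) := lcm_prod_le q hq2 T U hTpos
  have hLpos : 0 < L := by
    apply Nat.mul_pos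
    · rcases Nat.eq_zero_or_pos (T.lcm fun n => q ^ n + 1) with h1 | h1
      · exfalso
        rw [Finset.lcm_eq_zero_iff] at h1
        obtain ⟨k, _, hk⟩ := h1
        have : 0 < q ^ k + 1 := by positivity
        omega
      · exact h1
    · apply prod_pos
      intro n hn
      have := Nat.one_lt_pow (hUpos n hn).ne' hq2
      omega
  -- all factors divide `X ^ L - 1`
  have hS'L : ∀ f ∈ S', f ∣ X ^ L - 1 ∧ (Odd q → 2 ∣ L) := by
    intro f hf
    by_cases hsf : star f = f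
    · obtain ⟨n, hn0, hn, hdvd⟩ := hself f hf hsf
      have hnT : n ∈ T := by
        refine mem_image.mpr ⟨f, mem_filter.mpr ⟨hf, hsf⟩, ?_⟩
        show f.natDegree / 2 = n
        rw [hn]; omega
      have h1 : q ^ n + 1 ∣ L := (Finset.dvd_lcm (f := fun n => q ^ n + 1) hnT).trans (dvd_mul_right _ _)
      refine ⟨dvd_X_pow_sub_one_of_dvd hdvd h1, fun hodd => ?_⟩
      exact (even_iff_two_dvd.mp (hodd.pow.add_odd odd_one)).trans h1
    · have hnU : f.natDegree ∈ U := mem_image.mpr ⟨f, mem_filter.mpr ⟨hf, hsf⟩, rfl⟩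
      have h1 : q ^ f.natDegree - 1 ∣ L :=
        (Finset.dvd_prod_of_mem (fun n => q ^ n - 1) hnU).trans (dvd_mul_left _ _)
      refine ⟨dvd_X_pow_sub_one_of_dvd
        (dvd_X_pow_sub_one (hspec f (hS'S hf)).1 (hcoeff f (hS'S hf))) h1, fun hodd => ?_⟩
      exact (even_iff_two_dvd.mp (Nat.Odd.sub_odd hodd.pow odd_one)).trans h1
  have hSL : ∀ f ∈ S, f ∣ X ^ L - 1 := by
    intro f hf
    by_cases hf' : f ∈ S'
    · exact (hS'L f hf').1
    · have hf2 : f ∣ X ^ 2 - 1 := by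
        by_contra hcon
        exact hf' (mem_filter.mpr ⟨hf, hcon⟩)
      by_cases hp2 : p = 2
      · subst hp2
        have h1 : (X : F[X]) ^ 2 - 1 = (X - 1) ^ 2 := by
          have := sub_pow_char (p := 2) (X : F[X]) 1
          rw [this, one_pow]
        rw [h1] at hf2
        have h2 := (hspec f hf).1.prime.dvd_of_dvd_pow hf2
        refine dvd_X_pow_sub_one_of_dvd (a := 1) (by simpa using h2) (one_dvd _)
      · obtain ⟨g, hg1, hg2, hg3, hg4⟩ := hne hp2
        have hgS : g ∈ S' := mem_filter.mpr ⟨hmemS g hg1 hg2 hg3, hg4⟩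
        have hodd : Odd q := by
          obtain ⟨n, hn, hcard⟩ := FiniteField.card F p
          rw [hqdef, hcard]
          exact (hp.odd_of_ne_two hp2).pow
        exact dvd_X_pow_sub_one_of_dvd hf2 ((hS'L g hgS).2 hodd)
  have hdegS : ∑ f ∈ S, μ f * f.natDegree = χ.natDegree := natDegree_factors hm
  -- bound on the multiplicities
  have hmult : ∃ k : ℕ, (∑ n ∈ T, n + ∑ n ∈ U, n) + k ≤ m ∧ ∀ f ∈ S, μ f ≤ p ^ k := by
    rcases S.eq_empty_or_nonempty with hSe | hSne
    · have hS'e : S' = ∅ := by rw [hS', hSe]; rfl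
      have hTe : T = ∅ := by rw [hT, hS'e]; rfl
      have hUe : U = ∅ := by rw [hU, hS'e]; rfl
      refine ⟨0, by rw [hTe, hUe]; simp, ?_⟩
      intro f hf
      rw [hSe] at hf
      simp at hf
    · obtain ⟨f₀, hf₀, hmax⟩ := S.exists_max_image μ hSne
      by_cases hf₀' : f₀ ∈ S'
      · refine ⟨μ f₀ - 1, ?_, fun f hf => (hmax f hf).trans
          (le_pow_pred p hp.two_le _ (hμ1 f₀ hf₀))⟩
        have h1 := mult_le S S' hS'S natDegree μ star hμ1 hd1 hstS' (fun f hf => hdst f (hS'S hf))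
          (fun f hf => hμst f (hS'S hf)) (fun f hf hsf => by
            obtain ⟨n, hn0, hn, _⟩ := hself f hf hsf
            rw [hn]; omega) f₀ hf₀'
        rw [hdegS] at h1
        rcases hdeg with hdeg | hdeg <;> omega
      · have h1 := mult_le' S S' hS'S natDegree μ hμ1 hd1 f₀ hf₀ hf₀'
        rw [hdegS] at h1
        have h2 := hμ1 f₀ hf₀
        by_cases hp2 : p = 2
        · refine ⟨(μ f₀ + 1) / 2, ?_, fun f hf => (hmax f hf).trans ?_⟩
          · rcases hdeg with hdeg | hdeg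
            · omega
            · exact absurd hp2 hdeg.2
          · have h3 := two_mul_le p hp.two_le ((μ f₀ + 1) / 2) (by omega)
            omega
        · refine ⟨μ f₀ / 2, ?_, fun f hf => (hmax f hf).trans ?_⟩
          · rcases hdeg with hdeg | hdeg <;> omega
          · have h3 := two_mul_add_one_le p (by
              have := hp.two_le
              omega) (μ f₀ / 2)
            omega
  obtain ⟨k, hk1, hk2⟩ := hmult
  refine ⟨L * p ^ k, Nat.mul_pos hLpos (pow_pos hp.pos _), ?_, ?_⟩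
  · calc (q - 1) * (L * p ^ k) = ((q - 1) * L) * p ^ k := by ring
      _ ≤ q ^ (1 + (∑ n ∈ T, n + ∑ n ∈ U, n)) * q ^ k :=
        Nat.mul_le_mul hLle (Nat.pow_le_pow_left hpq k)
      _ = q ^ (1 + (∑ n ∈ T, n + ∑ n ∈ U, n) + k) := by rw [← pow_add]
      _ ≤ q ^ (m + 1) := Nat.pow_le_pow_right (by omega) (by omega)
  · exact dvd_of_factors p hm L k hSL hk2

omit [Fintype F] in
theorem eq_of_dvd_sq_sub_one {f : F[X]} (hf : Irreducible f) (hm : f.Monic) (h : f ∣ X ^ 2 - 1) :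
    f = X - 1 ∨ f = X + 1 := by
  have h1 : (X : F[X]) ^ 2 - 1 = (X - 1) * (X + 1) := by ring
  rw [h1] at h
  have hi1 : Irreducible ((X : F[X]) - 1) := by simpa using irreducible_X_sub_C (1 : F)
  have hi2 : Irreducible ((X : F[X]) + 1) := by simpa using irreducible_X_sub_C (-1 : F)
  have hm1 : ((X : F[X]) - 1).Monic := by simpa using monic_X_sub_C (1 : F)
  have hm2 : ((X : F[X]) + 1).Monic := by simpa using monic_X_sub_C (-1 : F)
  rcases hf.prime.dvd_or_dvd h with h2 | h2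
  · left
    exact eq_of_monic_of_associated hm hm1 (hf.associated_of_dvd hi1 h2)
  · right
    exact eq_of_monic_of_associated hm hm2 (hf.associated_of_dvd hi2 h2)

theorem mixed_le (p : ℕ) (hp : 3 ≤ p) (m : ℕ) (hm : 3 ≤ m) : 2 * m ≤ p ^ (m - 1) := by
  induction m, hm using Nat.le_induction with
  | base => 
    show 6 ≤ p ^ 2
    nlinarith
  | succ m hm ih =>
    have h1 : m + 1 - 1 = (m - 1) + 1 := by omega
    rw [h1, pow_succ]
    nlinarith

/-- A monic self-reciprocal polynomial `χ` of degree `2 m` (or `2 m + 1`) over the field with `q`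
elements, with `(-1) ^ deg χ * χ(0) = 1`, divides `X ^ k - 1` or `X ^ k + 1` for some `k ≥ 1` with
`(q - 1) k ≤ q ^ (m + 1)`. -/
theorem poly_bound (p : ℕ) [Fact p.Prime] [CharP F p]
    (χ : F[X]) (hm : χ.Monic) (hdet : (-1) ^ χ.natDegree * χ.coeff 0 = 1) (hrev : χ.reverse ∣ χ)
    (m : ℕ)
    (hN : (χ.natDegree = 2 * m ∧ 2 ≤ m) ∨ (χ.natDegree = 2 * m + 1 ∧ 3 ≤ m ∧ p ≠ 2)) :
    ∃ k : ℕ, 0 < k ∧ (Fintype.card F - 1) * k ≤ Fintype.card F ^ (m + 1) ∧
      (χ ∣ X ^ k - 1 ∨ χ ∣ X ^ k + 1) := by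
  classical
  have hp : p.Prime := Fact.out
  have hχ0 : χ.coeff 0 ≠ 0 := by
    intro h0
    rw [h0, mul_zero] at hdet
    exact one_ne_zero hdet.symm
  by_cases hcase : p ≠ 2 → ∃ f : F[X], Irreducible f ∧ f.Monic ∧ f ∣ χ ∧ ¬ f ∣ X ^ 2 - 1
  · obtain ⟨k, hk0, hk1, hk2⟩ := exists_exponent p hm hχ0 hrev m (by
      rcases hN with h | h
      · exact Or.inl h.1
      · exact Or.inr ⟨h.1, h.2.2⟩) hcase
    exact ⟨k, hk0, hk1, Or.inl hk2⟩
  · obtain ⟨hp2, hcase⟩ := Classical.not_imp.mp hcase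
    push Not at hcase
    have hp3 : 3 ≤ p := by
      have := hp.two_le
      omega
    have hpq : p ≤ Fintype.card F := by
      obtain ⟨n, hn, hcard⟩ := FiniteField.card F p
      rw [hcard]
      exact Nat.le_self_pow n.pos.ne' p
    have hneg : (-1 : F) ≠ 1 := by
      intro h
      have h2 : ((2 : ℕ) : F) = 0 := by
        have : (1 : F) + 1 = 0 := by nth_rewrite 1 [← h]; ring
        rw [← this]; norm_num
      rw [CharP.cast_eq_zero_iff F p] at h2
      have := Nat.le_of_dvd (by norm_num) h2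
      omega
    set S := (normalizedFactors χ).toFinset with hS
    set a := (normalizedFactors χ).count (X - 1) with ha
    set c := (normalizedFactors χ).count (X + 1) with hc
    have hSsub : S ⊆ {X - 1, X + 1} := by
      intro f hf
      have h1 := factor_spec hm hf
      rw [mem_insert, mem_singleton]
      exact eq_of_dvd_sq_sub_one h1.1 h1.2.1 (hcase f h1.1 h1.2.1 h1.2.2)
    have hXX : (X - 1 : F[X]) ≠ X + 1 := by
      intro h
      have h1 := congrArg (Polynomial.eval 0) h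
      simp only [eval_sub, eval_X, eval_one, eval_add, zero_sub, zero_add] at h1
      exact hneg h1
    have hfac : (X - 1) ^ a * (X + 1) ^ c = χ := by
      rw [← prod_factors hm, ← hS, Finset.prod_subset hSsub, prod_pair hXX]
      intro f _ hfS
      have : f ∉ normalizedFactors χ := fun h => hfS (Multiset.mem_toFinset.mpr h)
      rw [Multiset.count_eq_zero.mpr this, pow_zero]
    have hm1 : ((X : F[X]) - 1).Monic := by simpa using monic_X_sub_C (1 : F)
    have hm2 : ((X : F[X]) + 1).Monic := by simpa using monic_X_sub_C (-1 : F)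
    have hsum : a + c = χ.natDegree := by
      rw [← hfac, (hm1.pow a).natDegree_mul (hm2.pow c), hm1.natDegree_pow,
        hm2.natDegree_pow]
      have e1 : ((X : F[X]) - 1).natDegree = 1 := by simpa using natDegree_X_sub_C (1 : F)
      have e2 : ((X : F[X]) + 1).natDegree = 1 := by simpa using natDegree_X_sub_C (-1 : F)
      rw [e1, e2]; ring
    have hceven : Even c := by
      have h1 := hdet.symm
      rw [← hsum, coeff_zero_eq_eval_zero, ← hfac] at h1
      simp only [eval_mul, eval_pow, eval_sub, eval_X, eval_one, eval_add, zero_sub, zero_add,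
        one_pow, mul_one] at h1
      rw [pow_add, mul_right_comm, ← mul_pow, neg_mul_neg, one_mul, one_pow, one_mul] at h1
      rcases Nat.even_or_odd c with h2 | h2
      · exact h2
      · rw [h2.neg_one_pow] at h1
        exact absurd h1.symm hneg
    have hbound : ∀ k : ℕ, k ≤ m → (Fintype.card F - 1) * p ^ k ≤ Fintype.card F ^ (m + 1) := by
      intro k hk
      calc (Fintype.card F - 1) * p ^ k ≤ Fintype.card F * Fintype.card F ^ k :=
            Nat.mul_le_mul (Nat.sub_le _ _) (Nat.pow_le_pow_left hpq k)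
        _ = Fintype.card F ^ (k + 1) := by rw [pow_succ]; ring
        _ ≤ _ := Nat.pow_le_pow_right Fintype.card_pos (by omega)
    rcases Nat.eq_zero_or_pos c with hc0 | hc0
    · -- unipotent
      refine ⟨p ^ (χ.natDegree / 2), pow_pos hp.pos _, hbound _ (by omega), Or.inl ?_⟩
      have h1 : (X : F[X]) ^ p ^ (χ.natDegree / 2) - 1 = (X - 1) ^ p ^ (χ.natDegree / 2) := by
        rw [sub_pow_char_pow, one_pow]
      have h2 : χ = (X - 1) ^ a := by rw [← hfac, hc0, pow_zero, mul_one]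
      have h3 := two_mul_add_one_le p hp3 (χ.natDegree / 2)
      rw [h1]
      calc χ ∣ (X - 1) ^ a := h2.dvd
        _ ∣ _ := pow_dvd_pow _ (by omega)
    · rcases Nat.eq_zero_or_pos a with ha0 | ha0
      · refine ⟨p ^ (χ.natDegree / 2), pow_pos hp.pos _, hbound _ (by omega), Or.inr ?_⟩
        have h1 : (X : F[X]) ^ p ^ (χ.natDegree / 2) + 1 = (X + 1) ^ p ^ (χ.natDegree / 2) := by
          rw [add_pow_char_pow, one_pow]
        have h2 : χ ∣ (X : F[X]) ^ p ^ (χ.natDegree / 2) + 1 := by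
          have h2 : χ = (X + 1) ^ c := by rw [← hfac, ha0, pow_zero, one_mul]
          have h3 := two_mul_add_one_le p hp3 (χ.natDegree / 2)
          rw [h1]
          calc χ ∣ (X + 1) ^ c := h2.dvd
            _ ∣ _ := pow_dvd_pow _ (by omega)
        exact h2
      · -- mixed
        have hm1' : 1 ≤ m := by omega
        have hac : a ≤ p ^ (m - 1) ∧ c ≤ p ^ (m - 1) := by
          rcases hN with h | h
          · obtain ⟨c', hc'⟩ := hceven
            have h3 := two_mul_le p hp.two_le (m - 1) (by omega)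
            constructor <;> omega
          · have h3 := mixed_le p hp3 m h.2.1
            constructor <;> omega
        refine ⟨2 * p ^ (m - 1), by positivity, ?_, Or.inl ?_⟩
        · obtain ⟨j, hj⟩ := Nat.exists_eq_add_of_le hm1'
          have h2 : (Fintype.card F - 1) * 2 ≤ Fintype.card F * Fintype.card F := by
            have : 3 ≤ Fintype.card F := hp3.trans hpq
            calc _ ≤ Fintype.card F * 2 := Nat.mul_le_mul_right _ (Nat.sub_le _ _)
              _ ≤ _ := Nat.mul_le_mul_left _ (by omega)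
          calc (Fintype.card F - 1) * (2 * p ^ (m - 1))
              = ((Fintype.card F - 1) * 2) * p ^ (m - 1) := by ring
            _ ≤ (Fintype.card F * Fintype.card F) * Fintype.card F ^ (m - 1) :=
              Nat.mul_le_mul h2 (Nat.pow_le_pow_left hpq _)
            _ = Fintype.card F ^ (m + 1) := by
              rw [hj, Nat.add_sub_cancel_left]; ring
        · apply dvd_of_factors p hm
          · intro f hf
            have := hSsub hf
            rw [mem_insert, mem_singleton] at this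
            rcases this with rfl | rfl
            · exact ⟨X + 1, by ring⟩
            · exact ⟨X - 1, by ring⟩
          · intro f hf
            have := hSsub hf
            rw [mem_insert, mem_singleton] at this
            rcases this with rfl | rfl
            · exact hac.1
            · exact hac.2

theorem matrix_bound {ι : Type*} [Fintype ι] [DecidableEq ι] (p : ℕ) [Fact p.Prime] [CharP F p]
    (M : Matrix ι ι F) (hdet : M.det = 1) (hrev : M.charpoly.reverse ∣ M.charpoly) (m : ℕ)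
    (hN : (Fintype.card ι = 2 * m ∧ 2 ≤ m) ∨ (Fintype.card ι = 2 * m + 1 ∧ 3 ≤ m ∧ p ≠ 2)) :
    ∃ k : ℕ, 0 < k ∧ (Fintype.card F - 1) * k ≤ Fintype.card F ^ (m + 1) ∧
      (M ^ k = 1 ∨ M ^ k = -1) := by
  have hnd : M.charpoly.natDegree = Fintype.card ι := M.charpoly_natDegree_eq_dim
  have hMχ : aeval M M.charpoly = 0 := M.aeval_self_charpoly
  obtain ⟨k, hk0, hk1, hk2⟩ := poly_bound p M.charpoly M.charpoly_monic (by
    rw [hnd, ← M.det_eq_sign_charpoly_coeff, hdet]) hrev m (by rw [hnd]; exact hN)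
  refine ⟨k, hk0, hk1, ?_⟩
  rcases hk2 with ⟨g, hg⟩ | ⟨g, hg⟩
  · left
    have h1 : aeval M (X ^ k - 1 : F[X]) = 0 := by rw [hg, map_mul, hMχ, zero_mul]
    rw [map_sub, map_pow, aeval_X, map_one] at h1
    exact sub_eq_zero.mp h1
  · right
    have h1 : aeval M (X ^ k + 1 : F[X]) = 0 := by rw [hg, map_mul, hMχ, zero_mul]
    rw [map_add, map_pow, aeval_X, map_one] at h1
    exact eq_neg_of_add_eq_zero_left h1

omit [Fintype F] in
/-- A matrix with `Mᵀ B M = B` for an invertible `B` has self-reciprocal characteristic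
polynomial. -/
theorem reverse_charpoly_dvd_of_form {ι : Type*} [Fintype ι] [DecidableEq ι]
    (M B : Matrix ι ι F) (hB : IsUnit B) (h : M.transpose * B * M = B) :
    M.charpoly.reverse ∣ M.charpoly := by
  have hMu : IsUnit M := by
    rw [Matrix.isUnit_iff_isUnit_det] at hB ⊢
    have h1 := congrArg Matrix.det h
    rw [Matrix.det_mul, Matrix.det_mul, Matrix.det_transpose] at h1
    rw [isUnit_iff_ne_zero] at hB ⊢
    intro h0
    rw [h0, mul_zero] at h1
    exact hB h1.symm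
  have h1 : M⁻¹.charpoly = M.charpoly := by
    have hMd : IsUnit M.det := (Matrix.isUnit_iff_isUnit_det _).mp hMu
    have hBd : IsUnit B.det := (Matrix.isUnit_iff_isUnit_det _).mp hB
    have h2 : B * M⁻¹.transpose.transpose = M.transpose * B := by
      rw [Matrix.transpose_transpose]
      nth_rewrite 1 [← h]
      rw [Matrix.mul_assoc, Matrix.mul_nonsing_inv _ hMd, Matrix.mul_one]
    rw [Matrix.transpose_transpose] at h2
    have h3 : M⁻¹ = B⁻¹ * M.transpose * B := by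
      rw [Matrix.mul_assoc, ← h2, ← Matrix.mul_assoc, Matrix.nonsing_inv_mul _ hBd, Matrix.one_mul]
    obtain ⟨b, hb⟩ := hB
    rw [h3, ← hb, Matrix.charpoly_units_conj', Matrix.charpoly_transpose]
  have h4 := Matrix.charpoly_inv M hMu
  rw [← Matrix.reverse_charpoly, h1] at h4
  exact ⟨_, by rw [mul_comm]; exact h4⟩

end Cfsg.Agent.H104
end
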