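import Mathlib
import Cfsg.Agent.H94.Sp.Base_m3
import Cfsg.Agent.H341.ThreeList_m3
import Cfsg.Agent.H946.ExcNum_m3
import Cfsg.Agent.Prune
set_option linter.all false
prune_inst 0x7ffffffdffbfffffffff7e7ffff9fffe3bd7dfffffdffb4bffffebffffff33ff3bedffaf1de4f8ffced6e6b730b9f853fb7eefffef6fdc7ffffdfff75ffbee7ff7ffbf8931d79d340f7c6ffffbf07fee7f3fffffffffffffffffffffffffffffffffffffffff
open scoped Cfsg.Agent.FastGrp

/-!
# Block T, the symplectic and odd orthogonal candidates: arithmetic (helper104)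
-/

set_option autoImplicit false

namespace Cfsg.Agent.H104.TSp

open Cfsg.Agent.H202.T Cfsg.Agent.H436

/-- `mm q + 1` is not an allowed element order, unless `q = 3` -/
theorem not_inL_succ {p q : ℕ} (hp : p.Prime) (hp2 : p ≠ 2) (hpq : ∃ f, 1 ≤ f ∧ q = p ^ f) (hq3 : q ≠ 3) :
    ¬ InL p q (mm q + 1) := by
  obtain ⟨f, hf, hqf⟩ := hpq
  have hpo : Odd p := hp.odd_of_ne_two hp2
  have hqo : Odd q := by rw [hqf]; exact hpo.pow
  have hp3 : 3 ≤ p := by
    have := hp.two_le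
    omega
  have hpq : p ∣ q := by rw [hqf]; exact dvd_pow_self p (by omega)
  have hq5 : 5 ≤ q := by
    have h1 : p ≤ q := Nat.le_of_dvd hqo.pos hpq
    obtain ⟨k, hk⟩ := hqo
    omega
  have h2m := two_mm hqo
  -- the general principle
  have key : ∀ c B : ℕ, 2 * B = c → c < q ^ 4 + 3 → 0 < c → ¬ mm q + 1 ∣ B := by
    intro c B hB hc hc0 hd
    have := Nat.le_of_dvd (by omega) hd
    omega
  -- for a multiple of `p`
  have q9 : p = 3 → 9 ≤ q := by
    rintro rfl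
    rcases Nat.lt_or_ge f 2 with h | h
    · exfalso
      apply hq3
      rw [hqf, show f = 1 by omega, pow_one]
    · rw [hqf]
      calc 9 = 3 ^ 2 := by norm_num
        _ ≤ 3 ^ f := Nat.pow_le_pow_right (by norm_num) h
  have keyp : ∀ c B : ℕ, 2 * B = c → 0 < c → c < q ^ 4 + 3 → (p = 3 → 3 * c < q ^ 4 + 3) → ¬ mm q + 1 ∣ p * B := by
    intro c B hB hc0 hc h3 hd
    by_cases hp3' : p = 3
    · have h4 := Nat.le_of_dvd (Nat.mul_pos hp.pos (by omega)) hd
      rw [hp3'] at h4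
      have := h3 hp3'
      omega
    · have hco : Nat.Coprime (mm q + 1) p := by
        rw [Nat.coprime_comm, hp.coprime_iff_not_dvd]
        intro h5
        have h6 : p ∣ q ^ 4 + 3 := by
          have : q ^ 4 + 3 = 2 * (mm q + 1) := by omega
          rw [this]
          exact h5.mul_left 2
        have h7 : p ∣ 3 := (Nat.dvd_add_right (dvd_pow hpq (by norm_num))).1 h6
        exact hp3' ((Nat.prime_dvd_prime_iff_eq hp Nat.prime_three).1 h7)
      have h4 := Nat.le_of_dvd (by omega) (hco.dvd_of_dvd_mul_left hd)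
      omega
  obtain ⟨k, hk⟩ := hqo
  have hq1 : q - 1 = 2 * k := by omega
  have hq2 : q + 1 = 2 * (k + 1) := by omega
  have h12 : (q - 1) / 2 = k := by omega
  have h22 : (q + 1) / 2 = k + 1 := by omega
  have hq3' : 1 ≤ q ^ 3 := Nat.one_le_pow _ _ (by omega)
  have hq2' : 1 ≤ q ^ 2 := Nat.one_le_pow _ _ (by omega)
  have hk2 : 2 ≤ k := by omega
  have e2 : q ^ 2 = 4 * k ^ 2 + 4 * k + 1 := by rw [hk]; ring
  have e3 : q ^ 3 = 8 * k ^ 3 + 12 * k ^ 2 + 6 * k + 1 := by rw [hk]; ring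
  have e4 : q ^ 4 = 16 * k ^ 4 + 32 * k ^ 3 + 24 * k ^ 2 + 8 * k + 1 := by rw [hk]; ring
  have k4 : 2 * k ^ 3 ≤ k ^ 4 := by
    rw [pow_succ k 3, mul_comm (k ^ 3)]; exact Nat.mul_le_mul_right _ hk2
  have k3 : 2 * k ^ 2 ≤ k ^ 3 := by
    rw [pow_succ k 2, mul_comm (k ^ 2)]; exact Nat.mul_le_mul_right _ hk2
  have k2 : 2 * k ≤ k ^ 2 := by
    rw [pow_succ k 1, pow_one]; exact Nat.mul_le_mul_right _ hk2
  have b4 : p = 3 → 4 * k ^ 3 ≤ k ^ 4 := fun h => by
    have := q9 h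
    rw [pow_succ k 3, mul_comm (k ^ 3)]; exact Nat.mul_le_mul_right _ (by omega)
  have b3 : p = 3 → 4 * k ^ 2 ≤ k ^ 3 := fun h => by
    have := q9 h
    rw [pow_succ k 2, mul_comm (k ^ 2)]; exact Nat.mul_le_mul_right _ (by omega)
  have b2 : p = 3 → 4 * k ≤ k ^ 2 := fun h => by
    have := q9 h
    rw [pow_succ k 1, pow_one]; exact Nat.mul_le_mul_right _ (by omega)
  have b1 : p = 3 → 4 ≤ k := fun h => by
    have := q9 h
    omega
  rintro (h | h | h | h | h | h | h | h | h | ⟨h3, h | h⟩ | ⟨h5, h | h⟩ | ⟨h7, h⟩)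
  · have := Nat.le_of_dvd (by have := forty_one_le (q := q) (by omega); (clear * - this; omega)) h
    omega
  · have h8 : mm q + 1 = (q ^ 4 - 1) / 2 + 2 := by (clear * - h2m; omega)
    have := Nat.le_of_dvd (by omega) h
    (clear * - h8 this; omega)
  · rw [h12] at h
    refine key (2 * ((q ^ 3 + 1) * k)) _ rfl ?_ ?_ h
    · rw [e3, e4]; linarith only [k3, k2]
    · exact Nat.mul_pos (by norm_num) (Nat.mul_pos (by omega) (by omega))
  · -- between `M` and `2 M`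
    rw [h22] at h
    have h9 : q ^ 3 - 1 = 8 * k ^ 3 + 12 * k ^ 2 + 6 * k := by (clear * - e3; omega)
    have h10 : mm q + 1 = 8 * k ^ 4 + 16 * k ^ 3 + 12 * k ^ 2 + 4 * k + 2 := by omega
    rw [h9, h10] at h
    obtain ⟨c, hc⟩ := h
    have h11 : 1 < c := by
      by_contra hcc
      have : c = 0 ∨ c = 1 := by omega
      rcases this with rfl | rfl
      · have : 0 < (8 * k ^ 3 + 12 * k ^ 2 + 6 * k) * (k + 1) := by (clear * - hk2; positivity)
        omega
      · linarith only [hq5, hk, k3, k2, hc]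
    have h13 : c < 2 := by
      by_contra hcc
      have : (8 * k ^ 4 + 16 * k ^ 3 + 12 * k ^ 2 + 4 * k + 2) * 2 ≤ (8 * k ^ 4 + 16 * k ^ 3 + 12 * k ^ 2 + 4 * k + 2) * c :=
        Nat.mul_le_mul_left _ (by omega)
      linarith only [k4, k3, k2, hc, this]
    omega
  · refine keyp (2 * (q ^ 3 + 1)) _ rfl (by (clear * -; omega)) (by (clear * - hq5 h22 e3 e4 k3 k2; omega)) (fun h => ?_) h
    have := b4 h; have := b3 h; have := b2 h; have := b1 h
    omega
  · refine keyp (2 * (q ^ 3 - 1)) _ rfl (by (clear * - hq5 h22 e3; omega)) (by (clear * - e3 e4 k3 k2; omega)) (fun h => ?_) h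
    have := b4 h; have := b3 h; have := b2 h; have := b1 h
    omega
  · rw [h22] at h
    refine keyp (2 * ((q ^ 2 + 1) * (k + 1))) _ rfl (by positivity) ?_ (fun h => ?_) h
    · rw [e2, e4]; linarith only [hq5, hk, k4, k3, k2]
    · rw [e2, e4]; linarith only [b4 h, b3 h, b2 h, b1 h]
  · rw [h12] at h
    refine keyp (2 * ((q ^ 2 + 1) * k)) _ rfl (by positivity) ?_ (fun h => ?_) h
    · rw [e2, e4]; linarith only [k4, k3, k2]
    · rw [e2, e4]; linarith only [b4 h, b3 h, b2 h, b1 h]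
  · refine keyp (2 * (q ^ 2 - 1)) _ rfl (by omega) (by (clear * - e2 e4; omega)) (fun h => ?_) h
    have := b4 h; have := b3 h; have := b2 h; have := b1 h
    (clear * - e2 e4 k3 k2; omega)
  · have := b4 h3; have := b3 h3; have := b2 h3; have := b1 h3
    exact key (2 * (9 * (q ^ 2 + 1))) _ rfl (by omega) (by (clear * -; omega)) h
  · have := b4 h3; have := b3 h3; have := b2 h3; have := b1 h3
    exact key (2 * (9 * (q ^ 2 - 1))) _ rfl (by omega) (by (clear * - e2 this; omega)) h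
  · exact key (2 * (25 * (q + 1))) _ rfl (by (clear * - hq5 h22 e4 k3 k2; omega)) (by omega) h
  · exact key (2 * (25 * (q - 1))) _ rfl (by (clear * - hq1 e4 k3 k2; omega)) (by omega) h
  · have h7' : 7 ≤ q := h7 ▸ Nat.le_of_dvd (by omega) hpq
    refine key (2 * 98) _ rfl ?_ (by omega) h
    have : 7 ^ 4 ≤ q ^ 4 := Nat.pow_le_pow_left h7' 4
    (clear * - this; omega)

/-- a prime which is an allowed order -/
theorem prime_cases {p q r : ℕ} (hp : p.Prime) (hqo : Odd q) (h : InL p q r) (hr : r.Prime)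
    (hr2 : r ≠ 2) : r = p ∨ r ∣ q ^ 8 - 1 ∨ r ∣ q ^ 6 - 1 := by
  have h4 : q ^ 4 - 1 ∣ q ^ 8 - 1 := by
    have := Nat.sub_dvd_pow_sub_pow (q ^ 4) 1 2
    simpa only [← pow_mul, _root_.Nat.reduceMul, _root_.one_pow] using this
  have h4' : q ^ 4 + 1 ∣ q ^ 8 - 1 := by
    refine ⟨q ^ 4 - 1, ?_⟩
    have := Nat.sq_sub_sq (q ^ 4) 1
    rw [← pow_mul] at this
    simpa only [_root_.Nat.reduceMul, _root_.one_pow] using this
  have half : ∀ a : ℕ, Even a → r ∣ a / 2 → r ∣ a := fun a ha h => by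
    obtain ⟨b, rfl⟩ := ha
    rw [show (b + b) / 2 = b by omega] at h
    exact h.add h
  have s2 : q ^ 2 + 1 ∣ q ^ 4 - 1 := by
    refine ⟨q ^ 2 - 1, ?_⟩
    have := Nat.sq_sub_sq (q ^ 2) 1
    rw [← pow_mul] at this
    simpa only [_root_.Nat.reduceMul, _root_.one_pow] using this
  have evp : Even (q + 1) := hqo.add_one
  have evm : Even (q - 1) := Nat.Odd.sub_odd hqo odd_one
  have eqp : ∀ s : ℕ, s.Prime → r ∣ s → r = s := fun s hs h => (Nat.prime_dvd_prime_iff_eq hr hs).1 h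
  have spl : ∀ a b : ℕ, r ∣ a * b → r ∣ a ∨ r ∣ b := fun a b h => hr.dvd_mul.1 h
  have c4 : ∀ a, r ∣ a → a ∣ q ^ 4 - 1 → r = p ∨ r ∣ q ^ 8 - 1 ∨ r ∣ q ^ 6 - 1 := fun a h1 h2 =>
    Or.inr (Or.inl ((h1.trans h2).trans h4))
  have c6 : ∀ a, r ∣ a → a ∣ q ^ 6 - 1 → r = p ∨ r ∣ q ^ 8 - 1 ∨ r ∣ q ^ 6 - 1 := fun a h1 h2 =>
    Or.inr (Or.inr (h1.trans h2))
  rcases h with h | h | h | h | h | h | h | h | h | ⟨h3, h | h⟩ | ⟨h5, h | h⟩ | ⟨h7, h⟩
  · right; left
    refine dvd_trans ?_ h4'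
    rw [← two_mm hqo]
    exact h.mul_left 2
  · exact c4 _ (half _ (Nat.Odd.sub_odd hqo.pow odd_one) h) dvd_rfl
  · rcases spl _ _ h with h | h
    · exact c6 _ h cube_add_dvd
    · exact c4 _ (half _ evm h) sub_one_dvd
  · rcases spl _ _ h with h | h
    · exact c6 _ h cube_sub_dvd
    · exact c4 _ (half _ evp h) add_one_dvd
  · rcases spl _ _ h with h | h
    · exact Or.inl (eqp p hp h)
    · exact c6 _ h cube_add_dvd
  · rcases spl _ _ h with h | h
    · exact Or.inl (eqp p hp h)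
    · exact c6 _ h cube_sub_dvd
  · rcases spl _ _ h with h | h
    · exact Or.inl (eqp p hp h)
    rcases spl _ _ h with h | h
    · exact c4 _ h s2
    · exact c4 _ (half _ evp h) add_one_dvd
  · rcases spl _ _ h with h | h
    · exact Or.inl (eqp p hp h)
    rcases spl _ _ h with h | h
    · exact c4 _ h s2
    · exact c4 _ (half _ evm h) sub_one_dvd
  · rcases spl _ _ h with h | h
    · exact Or.inl (eqp p hp h)
    · exact c4 _ h sq_sub_dvd
  · rcases spl _ _ h with h | h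
    · left
      rw [h3]
      exact eqp 3 Nat.prime_three (hr.dvd_of_dvd_pow (show r ∣ 3 ^ 2 from h))
    · exact c4 _ h s2
  · rcases spl _ _ h with h | h
    · left
      rw [h3]
      exact eqp 3 Nat.prime_three (hr.dvd_of_dvd_pow (show r ∣ 3 ^ 2 from h))
    · exact c4 _ h sq_sub_dvd
  · rcases spl _ _ h with h | h
    · left
      rw [h5]
      exact eqp 5 (by norm_num) (hr.dvd_of_dvd_pow (show r ∣ 5 ^ 2 from h))
    · exact c4 _ h add_one_dvd
  · rcases spl _ _ h with h | h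
    · left
      rw [h5]
      exact eqp 5 (by norm_num) (hr.dvd_of_dvd_pow (show r ∣ 5 ^ 2 from h))
    · exact c4 _ h sub_one_dvd
  · left
    rw [h7]
    have h10 : r ∣ 2 * 7 ^ 2 := h
    rcases spl _ _ h10 with h | h
    · exact absurd (eqp 2 Nat.prime_two h) hr2
    · exact eqp 7 (by norm_num) (hr.dvd_of_dvd_pow h)


section core

open Cfsg.Agent.H94.PG Cfsg.Agent.OrdDiv

/-- the order of the candidate -/
theorem pow_dvd_of {u n s k : ℕ} (hn : 1 ≤ n) (hs : s.Prime) (hsu : ¬ s ∣ u)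
    (hsi : ∀ i, 1 ≤ i → i < n → ¬ s ∣ u ^ (2 * i) - 1) {e : ℕ} (h : s ^ k ∣ u ^ e * prB u n) :
    s ^ k ∣ u ^ (2 * n) - 1 := by
  have h1 : s ^ k ∣ prB u n :=
    (Nat.Coprime.pow_left k (Nat.Coprime.pow_right e ((hs.coprime_iff_not_dvd).2 hsu))).dvd_of_dvd_mul_left h
  obtain ⟨j, rfl⟩ : ∃ j, n = j + 1 := ⟨n - 1, by omega⟩
  rw [prB, List.range_succ, List.map_append, List.prod_append] at h1
  simp only [List.map_cons, List.map_nil, List.prod_cons, List.prod_nil, mul_one] at h1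
  refine (Nat.Coprime.pow_left k ((hs.coprime_iff_not_dvd).2 ?_)).dvd_of_dvd_mul_left h1
  intro h2
  obtain ⟨a, ha, hda⟩ := (Nat.Prime.prime hs).dvd_prod_iff.1 h2
  rw [List.mem_map] at ha
  obtain ⟨i, hi, rfl⟩ := ha
  rw [List.mem_range] at hi
  exact hsi (i + 1) (by omega) (by omega) hda

theorem dvd_of_le {u n i r : ℕ} (hi : 1 ≤ i) (hin : i ≤ n) (h : r ∣ u ^ (2 * i) - 1) : r ∣ prB u n := by
  refine dvd_trans h (List.dvd_prod ?_)
  rw [List.mem_map]
  exact ⟨i - 1, by rw [List.mem_range]; omega, by rw [show i - 1 + 1 = i by omega]⟩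

/-- a prime dividing `q ^ 2 + q + 1`, not 3, does not divide `q (q ^ 8 - 1)` -/
theorem three_free {q r : ℕ} (hq : 1 ≤ q) (hr : r.Prime) (hr3 : r ≠ 3) (h : r ∣ q ^ 2 + q + 1) :
    ¬ r ∣ q ∧ ¬ r ∣ q ^ 8 - 1 := by
  have : Fact r.Prime := ⟨hr⟩
  have h1 : (q : ZMod r) ^ 2 + q + 1 = 0 := by
    have := (ZMod.natCast_eq_zero_iff (q ^ 2 + q + 1) r).2 h
    push_cast at this
    exact this
  constructor
  · intro h2
    rw [← ZMod.natCast_eq_zero_iff] at h2
    rw [h2] at h1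
    norm_num at h1
  · intro h2
    have h3 : (q : ZMod r) ^ 8 = 1 := by
      rw [← ZMod.natCast_eq_zero_iff, Nat.cast_sub (Nat.one_le_pow _ _ hq)] at h2
      push_cast at h2
      exact sub_eq_zero.1 h2
    have h4 : (q : ZMod r) ^ 3 = 1 := by linear_combination ((q : ZMod r) - 1) * h1
    have h5 : (q : ZMod r) = 1 := by
      have e1 : (q : ZMod r) ^ 8 * q = ((q : ZMod r) ^ 3) ^ 3 := by ring
      rw [h3, h4] at e1
      simpa only [_root_.one_mul, _root_.one_pow] using e1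
    rw [h5] at h1
    have h6 : ((3 : ℕ) : ZMod r) = 0 := by
      push_cast
      linear_combination h1
    rw [ZMod.natCast_eq_zero_iff] at h6
    exact hr3 ((Nat.prime_dvd_prime_iff_eq hr Nat.prime_three).1 h6)

/-- a prime dividing `q ^ 2 - q + 1`, not 3, does not divide `q (q ^ 8 - 1)` -/
theorem six_free {q r : ℕ} (hq : 1 ≤ q) (hr : r.Prime) (hr3 : r ≠ 3) (h : r ∣ q ^ 2 - q + 1) :
    ¬ r ∣ q ∧ ¬ r ∣ q ^ 8 - 1 := by
  have : Fact r.Prime := ⟨hr⟩
  have hqq : q ≤ q ^ 2 := Nat.le_self_pow (by norm_num) q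
  have h1 : (q : ZMod r) ^ 2 - q + 1 = 0 := by
    have := (ZMod.natCast_eq_zero_iff (q ^ 2 - q + 1) r).2 h
    push_cast [Nat.cast_sub hqq] at this
    exact this
  constructor
  · intro h2
    rw [← ZMod.natCast_eq_zero_iff] at h2
    rw [h2] at h1
    norm_num at h1
  · intro h2
    have h3 : (q : ZMod r) ^ 8 = 1 := by
      rw [← ZMod.natCast_eq_zero_iff, Nat.cast_sub (Nat.one_le_pow _ _ hq)] at h2
      push_cast at h2
      exact sub_eq_zero.1 h2
    have h4 : (q : ZMod r) ^ 3 = -1 := by linear_combination ((q : ZMod r) + 1) * h1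
    have h5 : (q : ZMod r) ^ 2 = 1 := by
      have e1 : (q : ZMod r) ^ 8 = ((q : ZMod r) ^ 3) ^ 2 * (q : ZMod r) ^ 2 := by ring
      rw [h3, h4] at e1
      simpa only [_root_.sq_eq_one_iff, _root_.even_two, _root_.Even.neg_pow, _root_.one_pow, _root_.one_mul] using e1.symm
    have h5' : (q : ZMod r) = -1 := by
      rw [← h4]
      linear_combination (-(q : ZMod r)) * h5
    rw [h5'] at h1
    have h6 : ((3 : ℕ) : ZMod r) = 0 := by
      push_cast
      linear_combination h1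
    rw [ZMod.natCast_eq_zero_iff] at h6
    exact hr3 ((Nat.prime_dvd_prime_iff_eq hr Nat.prime_three).1 h6)

theorem exists_ne_three {N : ℕ} (hN : 3 < N) (h9 : ¬ 9 ∣ N) : ∃ r : ℕ, r.Prime ∧ r ≠ 3 ∧ r ∣ N := by
  by_cases h3 : 3 ∣ N
  · obtain ⟨k, rfl⟩ := h3
    obtain ⟨r, hr, hrk⟩ := Nat.exists_prime_and_dvd (n := k) (by omega)
    refine ⟨r, hr, ?_, hrk.mul_left 3⟩
    rintro rfl
    obtain ⟨j, rfl⟩ := hrk
    exact h9 ⟨j, by ring⟩
  · obtain ⟨r, hr, hrk⟩ := Nat.exists_prime_and_dvd (n := N) (by omega)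
    exact ⟨r, hr, by rintro rfl; exact h3 hrk, hrk⟩

theorem nine_add (q : ℕ) : ¬ 9 ∣ q ^ 2 + q + 1 := by
  intro h
  have h1 : ∀ x : ZMod 9, x ^ 2 + x + 1 ≠ 0 := by decide
  apply h1 (q : ZMod 9)
  have := (ZMod.natCast_eq_zero_iff (q ^ 2 + q + 1) 9).2 h
  push_cast at this
  exact this

theorem nine_sub (q : ℕ) : ¬ 9 ∣ q ^ 2 - q + 1 := by
  intro h
  have h1 : ∀ x : ZMod 9, x ^ 2 - x + 1 ≠ 0 := by decide
  apply h1 (q : ZMod 9)
  have hqq : q ≤ q ^ 2 := Nat.le_self_pow (by norm_num) q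
  have := (ZMod.natCast_eq_zero_iff (q ^ 2 - q + 1) 9).2 h
  push_cast [Nat.cast_sub hqq] at this
  exact this

/-- **same characteristic** -/
theorem same_char {p q n u : ℕ} {S : Type*} [Group S] [Finite S] (h : T4 p q S) (hn : 2 ≤ n) (hu : IsPrimePow u)
    (hcard : ∃ d, d ∣ 2 ∧ d * Nat.card S = u ^ (n ^ 2) * prB u n) (he : u ^ n = q ^ 4) : n = 4 ∧ u = q := by
  obtain ⟨d, hd2, hcard⟩ := hcard
  have hqo := h.odd
  have hq3 := h.three_le
  have hu2 : 2 ≤ u := hu.two_le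
  obtain ⟨f, hf, hqf⟩ := h.pow
  obtain ⟨a, ha, hua⟩ : ∃ a, 1 ≤ a ∧ u = p ^ a := by
    obtain ⟨s, a, hs, ha, rfl⟩ := hu
    have hs' : s.Prime := hs.nat_prime
    have h1 : s ∣ p := by
      have h2 : s ∣ q ^ 4 := by
        rw [← he]
        exact dvd_pow (dvd_pow_self s (by omega)) (by omega)
      rw [hqf] at h2
      exact hs'.dvd_of_dvd_pow (hs'.dvd_of_dvd_pow h2)
    rw [(Nat.prime_dvd_prime_iff_eq hs' h.prime).1 h1]
    exact ⟨a, ha, rfl⟩
  have han : a * n = 4 * f := by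
    rw [hua, hqf, ← pow_mul, ← pow_mul] at he
    have := Nat.pow_right_injective h.prime.two_le he
    omega
  have hp3 := h.three_le_p
  -- the primes of `prB` divide the order
  have hdvd : ∀ r, r.Prime → r ≠ 2 → ∀ i, 1 ≤ i → i ≤ n → r ∣ u ^ (2 * i) - 1 → r ∣ Nat.card S := by
    intro r hr hr2 i hi hin hd
    have h1 : r ∣ d * Nat.card S := by
      rw [hcard]
      exact (dvd_of_le hi hin hd).mul_left _
    rcases hr.dvd_mul.1 h1 with h2 | h2
    · exact absurd ((Nat.prime_dvd_prime_iff_eq hr Nat.prime_two).1 (h2.trans hd2)) hr2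
    · exact h2
  by_cases hn4 : n = 4
  · subst hn4
    exact ⟨rfl, Nat.pow_left_injective (n := 4) (by norm_num) he⟩
  exfalso
  rcases Nat.eq_or_lt_of_le hn with hn2 | hn3
  · -- `n = 2`
    subst hn2
    have huq : u = q ^ 2 := by
      have : u ^ 2 = (q ^ 2) ^ 2 := by rw [he]; ring
      exact Nat.pow_left_injective (n := 2) (by norm_num) this
    have hno : ∀ r, r.Prime → ¬ r ∣ q → ¬ r ∣ q ^ 8 - 1 → ¬ r ∣ Nat.card S := by
      intro r hr h1 h2 h3
      have h4 : r ∣ u ^ (2 ^ 2) * prB u 2 := by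
        rw [← hcard]
        exact h3.mul_left d
      have h5 : prB u 2 = (u ^ 2 - 1) * (u ^ 4 - 1) := by
        simp only [prB, List.range_succ, _root_.List.range_zero, _root_.List.nil_append, _root_.List.cons_append, _root_.List.map_cons, _root_.zero_add, _root_.mul_one, _root_.Nat.reduceAdd, _root_.Nat.reduceMul, _root_.List.map_nil, _root_.List.prod_cons, _root_.List.prod_nil]
      have e8 : u ^ 4 - 1 = q ^ 8 - 1 := by rw [huq, ← pow_mul]
      have e4 : u ^ 2 - 1 ∣ q ^ 8 - 1 := by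
        rw [← e8]
        have := Nat.sub_dvd_pow_sub_pow (u ^ 2) 1 2
        simpa only [← pow_mul, _root_.Nat.reduceMul, _root_.one_pow] using this
      rw [h5] at h4
      rcases hr.dvd_mul.1 h4 with h4 | h4
      · have h6 := hr.dvd_of_dvd_pow h4
        rw [huq] at h6
        exact h1 (hr.dvd_of_dvd_pow h6)
      rcases hr.dvd_mul.1 h4 with h4 | h4
      · exact h2 (h4.trans e4)
      · exact h2 (e8 ▸ h4)
    have hqq : 3 * q ≤ q ^ 2 := by nlinarith only [hq3]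
    obtain ⟨r, hr, hr3, hrd⟩ := exists_ne_three (N := q ^ 2 + q + 1) (by omega) (nine_add q)
    obtain ⟨s, hs, hs3, hsd⟩ := exists_ne_three (N := q ^ 2 - q + 1) (by omega) (nine_sub q)
    obtain ⟨a1, a2⟩ := three_free (by omega) hr hr3 hrd
    obtain ⟨b1, b2⟩ := six_free (by omega) hs hs3 hsd
    rcases h.miss36 r s hr hs hr3 hs3 hrd hsd with h1 | h1
    · exact hno r hr a1 a2 h1
    · exact hno s hs b1 b2 h1
  · -- `n = 3` or `n ≥ 5`
    have he3 : 3 ≤ 2 * a * (n - 1) := by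
      have : 2 * 1 * 2 ≤ 2 * a * (n - 1) := Nat.mul_le_mul (by omega) (by omega)
      omega
    obtain ⟨r, hr⟩ := exists_prim (q := p) (e := 2 * a * (n - 1)) (by omega) he3 (by omega)
    have hr2 : r ≠ 2 := hr.ne_two (by omega) h.odd_p
    have h1 : r ∣ Nat.card S := by
      refine hdvd r hr.prime hr2 (n - 1) (by omega) (by omega) ?_
      rw [hua, ← pow_mul]
      exact hr.dvd ⟨1, by ring⟩
    have : Fact r.Prime := ⟨hr.prime⟩
    obtain ⟨x, hx⟩ := exists_prime_orderOf_dvd_card' r h1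
    have h2 := h.om x
    rw [hx] at h2
    have hn1 : 2 ≤ n - 1 := by omega
    obtain ⟨m, rfl⟩ : ∃ m, n = m + 1 := ⟨n - 1, by omega⟩
    rw [Nat.add_sub_cancel] at hr hn1
    rcases prime_cases h.prime hqo h2 hr.prime hr2 with h3 | h3 | h3
    · exact hr.not_dvd (h3 ▸ dvd_rfl)
    · rw [hqf, ← pow_mul, hr.dvd_iff] at h3
      have h4 : 2 * a * m ∣ 2 * a * (m + 1) := by
        rw [show 2 * a * (m + 1) = f * 8 by linarith only [han]]
        exact h3
      have h5 : m ∣ m + 1 := Nat.dvd_of_mul_dvd_mul_left (by omega) h4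
      have h6 : m ∣ 1 := (Nat.dvd_add_right dvd_rfl).1 h5
      have := Nat.le_of_dvd one_pos h6
      omega
    · rw [hqf, ← pow_mul, hr.dvd_iff] at h3
      have h4 : a * (4 * m) ∣ a * (3 * (m + 1)) := by
        rw [show a * (3 * (m + 1)) = f * 6 * 2 by linarith only [han], show a * (4 * m) = 2 * a * m * 2 by ring]
        exact Nat.mul_dvd_mul_right h3 2
      have h5 : 4 * m ∣ 3 * (m + 1) := Nat.dvd_of_mul_dvd_mul_left (by omega) h4
      have h6 : m ∣ 3 * m + 3 := (Dvd.intro_left 4 rfl).trans h5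
      have h7 : m ∣ 3 := (Nat.dvd_add_right (Dvd.intro_left 3 rfl)).1 h6
      have h8 := (Nat.dvd_prime Nat.prime_three).1 h7
      omega

theorem core {p q n u : ℕ} {S : Type*} [Group S] [Finite S] (h : T4 p q S) (hn : 2 ≤ n) (hu : IsPrimePow u)
    (hinfo : ∀ r, r.Prime → r ≠ 2 → r ∣ Nat.card S → ¬ Adj S r 2 →
      (r ∣ u ^ n - 1 ∨ r ∣ u ^ n + 1) ∧ ∀ i, 1 ≤ i → i < n → ¬ r ∣ u ^ (2 * i) - 1)
    (hodd : ∀ N, Odd N → (N ∣ u ^ n - 1 ∨ N ∣ u ^ n + 1) → ∃ x : S, orderOf x = N)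
    (hev : ∀ N, 0 < N → (2 * N ∣ u ^ n - 1 ∨ 2 * N ∣ u ^ n + 1) → ∃ x : S, orderOf x = N)
    (hcard : ∃ d, d ∣ 2 ∧ d * Nat.card S = u ^ (n ^ 2) * prB u n) : n = 4 ∧ u = q := by
  refine same_char h hn hu hcard ?_
  obtain ⟨d, hd2, hcard⟩ := hcard
  have hqo := h.odd
  have hq3 := h.three_le
  have hm41 := forty_one_le hq3
  have h2m := two_mm hqo
  have hm8 := mm_mod hqo
  have hu2 : 2 ≤ u := hu.two_le
  have hun : 4 ≤ u ^ n := by
    calc 4 = 2 ^ 2 := by norm_num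
      _ ≤ 2 ^ n := Nat.pow_le_pow_right (by norm_num) hn
      _ ≤ u ^ n := Nat.pow_le_pow_left hu2 n
  have e2n : u ^ (2 * n) - 1 = (u ^ n + 1) * (u ^ n - 1) := by
    rw [mul_comm, pow_mul]
    have := Nat.sq_sub_sq (u ^ n) 1
    rw [one_pow] at this
    exact this
  -- the primes of `mm q`
  have hR : ∀ r, r.Prime → r ∣ mm q → (r ∣ u ^ n - 1 ∨ r ∣ u ^ n + 1) ∧ (∀ i, 1 ≤ i → i < n → ¬ r ∣ u ^ (2 * i) - 1) ∧
      ¬ r ∣ u := by
    intro r hr hrm
    have h1 := hinfo r hr (ne_two_of_dvd hqo hrm) (hrm.trans h.dvd_card) fun ha =>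
      ne_two_of_dvd hqo (h.adj hrm ha) rfl
    refine ⟨h1.1, h1.2, fun h2 => ?_⟩
    have h3 : r ∣ u ^ n := dvd_pow h2 (by omega)
    rcases h1.1 with h4 | h4
    · have h5 := Nat.dvd_sub h3 h4
      rw [show u ^ n - (u ^ n - 1) = 1 by omega] at h5
      exact hr.one_lt.ne' (Nat.dvd_one.1 h5)
    · have h5 := (Nat.dvd_add_right h3).1 h4
      exact hr.one_lt.ne' (Nat.dvd_one.1 h5)
  have hC : ∀ s k : ℕ, s.Prime → s ∣ mm q → s ^ k ∣ Nat.card S → s ^ k ∣ (u ^ n + 1) * (u ^ n - 1) := by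
    intro s k hs hsm hk
    obtain ⟨-, h1, h2⟩ := hR s hs hsm
    rw [← e2n]
    refine pow_dvd_of (by omega) hs h2 h1 (e := n ^ 2) ?_
    rw [← hcard]
    exact hk.mul_left d
  -- only one sign
  have hcop : ∀ s k A B : ℕ, s.Prime → ¬ s ∣ B → s ^ k ∣ A * B → s ^ k ∣ A := fun s k A B hs hB hd =>
    (Nat.Coprime.pow_left k ((hs.coprime_iff_not_dvd).2 hB)).dvd_of_dvd_mul_right hd
  have hs2 : ∀ s, s ∣ mm q → s.Prime → ¬ s ∣ 2 := fun s hsm hs hs2 =>
    ne_two_of_dvd hqo hsm ((Nat.prime_dvd_prime_iff_eq hs Nat.prime_two).1 hs2)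
  rcases Nat.even_or_odd u with hue | huo
  · -- `u` even
    exfalso
    have h4 : 4 ∣ u ^ n := by
      obtain ⟨t, ht⟩ := hue
      obtain ⟨j, rfl⟩ : ∃ j, n = 2 + j := ⟨n - 2, by omega⟩
      rw [pow_add]
      exact Dvd.dvd.mul_right ⟨t ^ 2, by rw [ht]; ring⟩ _
    obtain ⟨t, ht⟩ := h4
    have hex : ∀ N, Odd N → (N = u ^ n - 1 ∨ N = u ^ n + 1) → ∃ x : S, orderOf x = N := fun N hN hN' =>
      hodd N hN (hN'.imp (fun h => dvd_of_eq h) (fun h => dvd_of_eq h))
    have o1 : Odd (u ^ n - 1) := ⟨2 * t - 1, by omega⟩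
    have o2 : Odd (u ^ n + 1) := ⟨2 * t, by omega⟩
    by_cases hA : ∃ r : ℕ, r.Prime ∧ r ∣ mm q ∧ r ∣ u ^ n + 1
    · by_cases hB : ∃ r : ℕ, r.Prime ∧ r ∣ mm q ∧ r ∣ u ^ n - 1
      · obtain ⟨r, hr, hrm, hrd⟩ := hA
        obtain ⟨s, hs, hsm, hsd⟩ := hB
        obtain ⟨x, hx⟩ := hex _ o2 (Or.inr rfl)
        obtain ⟨y, hy⟩ := hex _ o1 (Or.inl rfl)
        have h5 := h.iso hr hrm (x := x) (by rw [hx]; exact hrd)
        have h6 := h.iso hs hsm (x := y) (by rw [hy]; exact hsd)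
        rw [hx] at h5
        rw [hy] at h6
        have hco : Nat.Coprime (u ^ n + 1) (u ^ n - 1) := by
          rw [show u ^ n + 1 = (u ^ n - 1) + 2 by omega, Nat.coprime_self_add_left]
          exact Nat.coprime_two_left.2 o1
        have h7 := hco.mul_dvd_of_dvd_of_dvd h5 h6
        have h8 : mm q ∣ (u ^ n + 1) * (u ^ n - 1) := by
          rw [Nat.dvd_iff_prime_pow_dvd_dvd]
          intro s k hs hk
          rcases Nat.eq_zero_or_pos k with rfl | hk0
          · simp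
          · exact hC s k hs ((dvd_pow_self s (by omega)).trans hk) (hk.trans h.dvd_card)
        have h9 := Nat.dvd_antisymm h8 h7
        obtain ⟨w, hw⟩ : ∃ w, t = w + 1 := ⟨t - 1, by omega⟩
        have h10 : (u ^ n + 1) * (u ^ n - 1) = 8 * (2 * w ^ 2 + 4 * w + 1) + 7 := by
          rw [ht, hw, show 4 * (w + 1) - 1 = 4 * w + 3 by omega]
          ring
        omega
      · obtain ⟨r, hr, hrm, hrd⟩ := hA
        have h5 : u ^ n + 1 = mm q := h.eq_of hr hrm hrd (hex _ o2 (Or.inr rfl)) fun s k hs hsm _ hk =>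
          hcop s k _ _ hs (fun h6 => hB ⟨s, hs, hsm, h6⟩) (hC s k hs hsm hk)
        -- `u ^ n = (q ^ 4 - 1) / 2`
        obtain ⟨k, hk⟩ := hqo
        have h6 : u ^ n = (2 * (k * (k + 1)) + 1) * (4 * (k * (k + 1))) := by
          have e4 : q ^ 4 = 16 * k ^ 4 + 32 * k ^ 3 + 24 * k ^ 2 + 8 * k + 1 := by rw [hk]; ring
          have e5 : (2 * (k * (k + 1)) + 1) * (4 * (k * (k + 1))) = 8 * k ^ 4 + 16 * k ^ 3 + 12 * k ^ 2 + 4 * k := by ring
          (clear * - h2m h5 e4 e5; omega)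
        have hk1 : 1 ≤ k := by omega
        obtain ⟨s, hs, hsd⟩ := Nat.exists_prime_and_dvd (n := 2 * (k * (k + 1)) + 1) (by
          have : 1 ≤ k * (k + 1) := Nat.mul_pos (by omega) (by omega)
          omega)
        have h7 : s ∣ u := hs.dvd_of_dvd_pow (h6 ▸ hsd.mul_right _)
        have h8 : s = 2 := by
          obtain ⟨l, a, hl, ha, rfl⟩ := hu
          have h9 : s = l := (Nat.prime_dvd_prime_iff_eq hs hl.nat_prime).1 (hs.dvd_of_dvd_pow h7)
          have h10 : 2 = l := (Nat.prime_dvd_prime_iff_eq Nat.prime_two hl.nat_prime).1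
            (Nat.prime_two.dvd_of_dvd_pow hue.two_dvd)
          rw [h9, h10]
        rw [h8] at hsd
        omega
    · obtain ⟨r, hr, hrm⟩ := exists_prime_mm hq3
      have hrd : r ∣ u ^ n - 1 := (hR r hr hrm).1.resolve_right fun h6 => hA ⟨r, hr, hrm, h6⟩
      have h5 : u ^ n - 1 = mm q := h.eq_of hr hrm hrd (hex _ o1 (Or.inl rfl)) fun s k hs hsm _ hk =>
          hcop s k _ _ hs (fun h6 => hA ⟨s, hs, hsm, h6⟩) (by rw [mul_comm]; exact hC s k hs hsm hk)
      omega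
  · -- `u` odd
    obtain ⟨t, ht⟩ : Odd (u ^ n) := huo.pow
    have e1 : u ^ n + 1 = 2 * (t + 1) := by omega
    have e2 : u ^ n - 1 = 2 * t := by omega
    have x1 : ∃ x : S, orderOf x = t + 1 := hev _ (by omega) (Or.inr (by rw [e1]))
    have x2 : ∃ x : S, orderOf x = t := hev _ (by omega) (Or.inl (by rw [e2]))
    have ds : ∀ s : ℕ, s.Prime → s ∣ mm q → ∀ N : ℕ, s ∣ 2 * N → s ∣ N := fun s hs hsm N hd =>
      (hs.dvd_mul.1 hd).resolve_left (hs2 s hsm hs)
    by_cases hA : ∃ r : ℕ, r.Prime ∧ r ∣ mm q ∧ r ∣ t + 1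
    · by_cases hB : ∃ r : ℕ, r.Prime ∧ r ∣ mm q ∧ r ∣ t
      · exfalso
        obtain ⟨r, hr, hrm, hrd⟩ := hA
        obtain ⟨s, hs, hsm, hsd⟩ := hB
        obtain ⟨x, hx⟩ := x1
        obtain ⟨y, hy⟩ := x2
        have h5 := h.iso hr hrm (x := x) (by rw [hx]; exact hrd)
        have h6 := h.iso hs hsm (x := y) (by rw [hy]; exact hsd)
        rw [hx] at h5
        rw [hy] at h6
        obtain ⟨a, ha⟩ := Odd.of_dvd_nat (mm_odd hqo) h5
        obtain ⟨b, hb⟩ := Odd.of_dvd_nat (mm_odd hqo) h6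
        omega
      · obtain ⟨r, hr, hrm, hrd⟩ := hA
        have h5 : t + 1 = mm q := h.eq_of hr hrm hrd x1 fun s k hs hsm _ hk => by
          have h6 := hC s k hs hsm hk
          rw [e1, e2] at h6
          have h7 : s ^ k ∣ (t + 1) * (4 * t) := by
            rw [show (t + 1) * (4 * t) = 2 * (t + 1) * (2 * t) by ring]
            exact h6
          refine hcop s k _ _ hs (fun h8 => ?_) h7
          exact hB ⟨s, hs, hsm, ds s hs hsm _ (ds s hs hsm _ (by
            rw [show 2 * (2 * t) = 4 * t by ring]; exact h8))⟩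
        (clear * - h2m ht h5; omega)
    · exfalso
      obtain ⟨r, hr, hrm⟩ := exists_prime_mm hq3
      have hrd : r ∣ t := by
        rcases (hR r hr hrm).1 with h6 | h6
        · rw [e2] at h6
          exact ds r hr hrm _ h6
        · rw [e1] at h6
          exact absurd ⟨r, hr, hrm, ds r hr hrm _ h6⟩ hA
      have h5 : t = mm q := h.eq_of hr hrm hrd x2 fun s k hs hsm _ hk => by
        have h6 := hC s k hs hsm hk
        rw [e1, e2] at h6
        have h7 : s ^ k ∣ t * (4 * (t + 1)) := by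
          rw [show t * (4 * (t + 1)) = 2 * (t + 1) * (2 * t) by ring]
          exact h6
        refine hcop s k _ _ hs (fun h8 => ?_) h7
        exact hA ⟨s, hs, hsm, ds s hs hsm _ (ds s hs hsm _ (by
          rw [show 2 * (2 * (t + 1)) = 4 * (t + 1) by ring]; exact h8))⟩
      obtain ⟨x, hx⟩ := x1
      have h6 := h.om x
      rw [hx, h5] at h6
      have h7 : q = 3 := by
        by_contra hq
        exact not_inL_succ h.prime h.ne_two h.pow hq h6
      subst h7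
      have h8 : u ^ n = 83 := by
        rw [ht, h5]
        rfl
      have h9 : u ∣ 83 := by
        rw [← h8]
        exact dvd_pow_self u (by omega)
      have h10 := (Nat.dvd_prime (by norm_num : Nat.Prime 83)).1 h9
      have h11 : u = 83 := by omega
      have h12 : 83 ^ 2 ≤ u ^ n := by
        rw [h11]
        exact Nat.pow_le_pow_right (by norm_num) hn
      omega

end core

end Cfsg.Agent.H104.TSp

private theorem dce_b6d269f49786 : _root_.True := by
  try have : _root_.True := by simp only [_root_.Cfsg.Agent.OrdDiv.prB.eq_1]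
  exact _root_.True.intro
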